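import Cfsg.Agent.H623.GU.Val
import Cfsg.Agent.H623.GLn.D4F
import Cfsg.Agent.H166.GUC.Odd
import Cfsg.Agent.H166.GUC.Even
import Cfsg.Agent.H615.GU.Grp

/-!
# S4537: the geometric hypothesis for the unitary groups

* `mcol_scl` : the columns of `z A`;
* `Tow` : towers of groups with realizations given by types;
* `ctx_pow` : the standing hypotheses for `Q ^ f`;
* `geo_gu` : the hypothesis `Geo` for `GU_n(q)`.
-/

set_option autoImplicit false

open Cfsg
open scoped ComplexConjugate TensorProduct MatrixGroups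

namespace Cfsg.Agent.H623.GU

open Cfsg.Agent.H577.GLB.Std Cfsg.Agent.H614 Cfsg.Agent.H614.GLn Cfsg.Agent.H615.GU
open Cfsg.Agent.H577.GLB.Real (coP PhiF PGen frm)
open Cfsg.Agent.H112.GLB Cfsg.Agent.H608.BlockRank Cfsg.Agent.H624.Sl Cfsg.Agent.H166.GUC

universe u v

section scl

variable {F : Type u} [Field F] {K : Type v} [Field K] [Algebra F K] {k : ℕ}

theorem mcol_scl (z : Fˣ) (A : GL (Fin k) F) (y : Kˣ) :
    mcol ((scl k z * A : GL (Fin k) F) : Matrix (Fin k) (Fin k) F) (y : K) =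
      mcol (A : Matrix (Fin k) (Fin k) F) ((((Units.map (algebraMap F K).toMonoidHom z)⁻¹ * y : Kˣ) : Kˣ) : K) := by
  obtain ⟨w, hw⟩ : ∃ w : Kˣ, w = Units.map (algebraMap F K).toMonoidHom z := ⟨_, rfl⟩
  rw [← hw]
  have hwz : (w : K) = algebraMap F K z := by rw [hw]; rfl
  have h1 : (((scl k z * A : GL (Fin k) F) : Matrix (Fin k) (Fin k) F).map (algebraMap F K) - Matrix.scalar (Fin k) (y : K)) =
      (w : K) • (((A : Matrix (Fin k) (Fin k) F)).map (algebraMap F K) -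
        Matrix.scalar (Fin k) (((w⁻¹ * y : Kˣ) : Kˣ) : K)) := by
    ext i j
    have h2 : ((scl k z * A : GL (Fin k) F) : Matrix (Fin k) (Fin k) F) i j = (z : F) * (A : Matrix (Fin k) (Fin k) F) i j := by
      change ((Matrix.scalar (Fin k) (z : F)) * (A : Matrix (Fin k) (Fin k) F)) i j = _
      rw [Matrix.scalar_apply, Matrix.diagonal_mul]
    rw [Matrix.sub_apply, Matrix.map_apply, h2, map_mul, Matrix.smul_apply, Matrix.sub_apply, Matrix.map_apply, smul_sub,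
      smul_eq_mul, smul_eq_mul, hwz, Matrix.scalar_apply, Matrix.scalar_apply]
    congr 1
    by_cases hij : i = j
    · subst hij
      rw [Matrix.diagonal_apply_eq, Matrix.diagonal_apply_eq, ← hwz, ← Units.val_mul, mul_inv_cancel_left]
    · rw [Matrix.diagonal_apply_ne _ hij, Matrix.diagonal_apply_ne _ hij, mul_zero]
  unfold mcol
  rw [h1]
  refine colOf_congr fun i => ?_
  obtain ⟨X, hX⟩ : ∃ X, X = (((A : Matrix (Fin k) (Fin k) F)).map (algebraMap F K) -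
        Matrix.scalar (Fin k) (((w⁻¹ * y : Kˣ) : Kˣ) : K)) := ⟨_, rfl⟩
  rw [← hX, smul_pow, Matrix.smul_eq_diagonal_mul]
  refine Matrix.rank_mul_eq_right_of_isUnit_det _ _ ?_
  rw [Matrix.det_diagonal, Finset.prod_const]
  exact ((w.isUnit.pow i).pow _)

end scl

section ctx

variable {K : Type v} [Field K] {θ : K →*₀ ℂ} {Q : ℤ} {M N : ℕ}

/-- the standing hypotheses for `Q ^ f` -/
theorem ctx_pow (ctx : CtxQ θ Q M N) {f k : ℕ} (hf : 0 < f) (hk : f * k ≤ N) : CtxQ θ (Q ^ f) M k where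
  finK := ctx.finK
  inj := ctx.inj
  card := ctx.card
  dvd := fun j hj hjk => by
    rw [← pow_mul]
    exact ctx.dvd _ (Nat.mul_pos hf hj) ((Nat.mul_le_mul_left _ hjk).trans hk)
  unit := by
    rw [Int.cast_pow]
    exact ctx.unit.pow f
  two := by
    rw [abs_pow]
    exact ctx.two.trans (le_self_pow₀ (by linarith [ctx.two]) hf.ne')

end ctx

section tow

variable {K : Type v} [Field K]

/-- a tower of finite groups with realizations given by types -/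
structure Tow (θ : K →*₀ ℂ) (Q : ℤ) (M : ℕ) [NeZero M] (N p : ℕ) (G : ℕ → Type u) [∀ n, Group (G n)]
    [∀ n, Finite (G n)] where
  /-- the types -/
  T : ∀ n, n ≤ N → TypeData (dOrb K Q) Q (G n) n
  hyp : ∀ n (hn : n ≤ N), RzHyp θ M p (T n hn)
  gr : ∀ n (hn : n ≤ N), Gr (hyp n hn).rz
  bij : ∀ (n m : ℕ) (hn : n ≤ N), n ≤ m → (hyp n hn).rz.Bij m
  preg : ∀ n (hn : n ≤ N) (g : G n), ¬ p ∣ orderOf g → PregT Q p ((T n hn).typ g)

variable {θ : K →*₀ ℂ} {Q : ℤ} {M : ℕ} [NeZero M] {N p : ℕ} {G : ℕ → Type u} [∀ n, Group (G n)]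
    [∀ n, Finite (G n)]

/-- the realizations of a tower -/
noncomputable def Tow.R (t : Tow θ Q M N p G) (n : ℕ) (hn : n ≤ N) : Rz Q M p n (G n) := (t.hyp n hn).rz

theorem Tow.R_om (t : Tow θ Q M N p G) {n : ℕ} (hn : n ≤ N) (x : RS M) (g : G n) :
    (t.R n hn).om x g = H615.GU.evR θ Q M x ((t.T n hn).typ g) := rfl

/-- the values at `u (A, B)` for towers -/
theorem Tow.val (hp : p.Prime) {f : ℕ} (hf : 0 < f) (h67 : R67 θ Q M p f) (t : Tow θ Q M N p G)
    {N₁ : ℕ} {G₁ : ℕ → Type u} [∀ n, Group (G₁ n)] [∀ n, Finite (G₁ n)] (t₁ : Tow θ (Q ^ f) M N₁ p G₁) {n l k : ℕ}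
    (hn : n ≤ N) (hl : l ≤ N) (hk : k ≤ N₁) (j : G₁ k × G l →* G n) (c : G₁ k) {z : Kˣ} {a₀ : ℕ} (hz : z ^ p ^ a₀ = 1)
    (hz1 : z ≠ 1) (hmin : ∀ j : ℕ, z ^ (Q ^ j) = z ↔ f ∣ j)
    (htyp : ∀ (A : G₁ k) (B : G l) (x : Kˣ) (i : ℕ), (t.T n hn).typ (j (A, B)) (Quotient.mk (orbSetoid K Q) x) i =
      ∑ i' ∈ Finset.range f, (t₁.T k hk).typ A (Quotient.mk (orbSetoid K (Q ^ f)) (x ^ (Q ^ i'))) i +
        (t.T l hl).typ B (Quotient.mk (orbSetoid K Q) x) i)
    (hsh : ∀ (A : G₁ k) (y : Kˣ), (t₁.T k hk).typ (c * A) (Quotient.mk (orbSetoid K (Q ^ f)) y) =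
      (t₁.T k hk).typ A (Quotient.mk (orbSetoid K (Q ^ f)) (z⁻¹ * y))) :
    Val (t.R n hn) (t₁.R k hk) (t.R l hl) j (j (c, 1)) :=
  val_of hp hf h67 (t.hyp n hn) (t₁.hyp k hk) (t.hyp l hl) j c hz hz1 hmin htyp hsh (t₁.preg k hk) (t.preg l hl)

end tow

section central

variable {E : Type u} [Field E] [Finite E] {p : ℕ}

theorem orderOf_scl {k : ℕ} (hk : 0 < k) (z : Eˣ) : orderOf (scl k z) = orderOf z := by
  apply orderOf_injective (Units.map (Matrix.scalar (Fin k)).toMonoidHom : Eˣ →* GL (Fin k) E)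
  intro x y hxy
  have h2 := congrArg (fun A : GL (Fin k) E => A.1 ⟨0, hk⟩ ⟨0, hk⟩) hxy
  apply Units.ext
  simpa using h2

theorem scl_comm {k : ℕ} (z : Eˣ) (g : GL (Fin k) E) : scl k z * g = g * scl k z := by
  apply Units.ext
  change (Matrix.scalar (Fin k)) ((z : Eˣ) : E) * g.1 = g.1 * (Matrix.scalar (Fin k)) _
  exact (Matrix.scalar_commute _ (fun r => Commute.all _ r) _)

theorem orderOf_gsc {k Q₀ : ℕ} (hk : 0 < k) (z : Eˣ) (hz : z ^ (Q₀ + 1) = 1) : orderOf (gsc k z hz) = orderOf z := by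
  rw [← orderOf_scl hk z, ← coe_gsc k z hz]
  exact (orderOf_injective (GU k E Q₀).subtype Subtype.val_injective (gsc k z hz)).symm

theorem exists_pow_order (hp : p.Prime) {z : Eˣ} (hz : ∃ a : ℕ, orderOf z = p ^ a) (hz1 : z ≠ 1) :
    ∃ i : ℕ, orderOf (z ^ i) = p := by
  obtain ⟨a, ha⟩ := hz
  have ha0 : a ≠ 0 := by
    rintro rfl
    rw [pow_zero, orderOf_eq_one_iff] at ha
    exact hz1 ha
  refine ⟨p ^ (a - 1), ?_⟩
  rw [orderOf_pow, ha, Nat.gcd_eq_right (pow_dvd_pow p (Nat.sub_le a 1)), Nat.pow_div (Nat.sub_le a 1) hp.pos,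
    Nat.sub_sub_self (Nat.one_le_iff_ne_zero.2 ha0), pow_one]

/-- a central element of order `p` of the unitary group -/
theorem exists_gsc (hp : p.Prime) {z : Eˣ} (hz : ∃ a : ℕ, orderOf z = p ^ a) (hz1 : z ≠ 1) {Q₀ : ℕ} (hzq : z ^ (Q₀ + 1) = 1)
    {k : ℕ} (hk : 0 < k) : ∃ c : GU k E Q₀, orderOf c = p ∧ ∀ g : GU k E Q₀, c * g = g * c := by
  obtain ⟨i, hi⟩ := exists_pow_order hp hz hz1
  have h1 : (z ^ i) ^ (Q₀ + 1) = 1 := by rw [← pow_mul, mul_comm, pow_mul, hzq, one_pow]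
  refine ⟨gsc k (z ^ i) h1, by rw [orderOf_gsc hk, hi], fun g => Subtype.ext ?_⟩
  rw [Subgroup.coe_mul, Subgroup.coe_mul, coe_gsc]
  exact scl_comm _ _

end central

section fields

/-- field data of the odd case -/
structure FOdd (F K : Type u) [Field F] [Field K] [Algebra F K] (q p f : ℕ) (E : Type u) [Field E] [Algebra F E]
    [Algebra E K] (z : Eˣ) : Prop where
  tower : IsScalarTower F E K
  finrank : Module.finrank F E = f
  ppow : ∃ a : ℕ, orderOf z = p ^ a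
  ne : z ≠ 1
  unit : z ^ (q ^ f + 1) = 1
  adj : Algebra.adjoin F {(z : E)} = ⊤
  min : ∀ j : ℕ, (Units.map (algebraMap E K).toMonoidHom z) ^ ((-(q : ℤ)) ^ j) =
    Units.map (algebraMap E K).toMonoidHom z ↔ f ∣ j

/-- field data of the even case -/
structure FEven (F K : Type u) [Field F] [Field K] [Algebra F K] (q p g : ℕ) (E : Type u) [Field E] [Algebra F E]
    [Algebra E K] (z : Eˣ) : Prop where
  tower : IsScalarTower F E K
  finrank : Module.finrank F E = g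
  ppow : ∃ a : ℕ, orderOf z = p ^ a
  ne : z ≠ 1
  dual : ∀ i : ℕ, (z⁻¹) ^ q ≠ z ^ ((q ^ 2) ^ i)
  adj : Algebra.adjoin F {(z : E)} = ⊤
  min : ∀ j : ℕ, (Units.map (algebraMap E K).toMonoidHom z) ^ ((-(q : ℤ)) ^ j) =
    Units.map (algebraMap E K).toMonoidHom z ↔ 2 * g ∣ j

variable {F : Type u} [Field F] [Fintype F] {K : Type u} [Field K] [Algebra F K] {θ : K →*₀ ℂ} {q M N p : ℕ} [NeZero M]

/-- **The reduction step, odd case.** -/
theorem step_odd (hp : p.Prime) (hF : Fintype.card F = q ^ 2) {f : ℕ} (hfo : Odd f)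
    (h67 : R67 θ (-(q : ℤ)) M p f) (t : Tow θ (-(q : ℤ)) M N p (fun n => GU n F q))
    (ht : ∀ n (hn : n ≤ N), IsTypU q n (t.T n hn)) {E : Type u} [Field E] [Finite E] [Algebra F E] [Algebra E K] {z : Eˣ}
    (hE : FOdd F K q p f E z) {N₁ : ℕ} (t₁ : Tow θ ((-(q : ℤ)) ^ f) M N₁ p (fun n => GU n E (q ^ f)))
    (ht₁ : ∀ n (hn : n ≤ N₁) (A : GU n E (q ^ f)) (x : Kˣ), (t₁.T n hn).typ A (Quotient.mk (orbSetoid K _) x) =
      mcol ((A : GL (Fin n) E) : Matrix (Fin n) (Fin n) E) (x : K)) {n k l : ℕ} (hk : k ≤ N₁) (hl : l ≤ N)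
    (hn : n ≤ N) (hnl : l + f * k = n) :
    ∃ (j : GU k E (q ^ f) × GU l F q →* GU n F q),
      Function.Injective j ∧
      j.range = Subgroup.centralizer ({j (gsc k z hE.unit, 1)} : Set (GU n F q)) ∧
      (∀ (A : GU k E (q ^ f)) (B : GU l F q) (x : Kˣ) (i : ℕ),
        (t.T n hn).typ (j (A, B)) (Quotient.mk (orbSetoid K (-(q : ℤ))) x) i =
        ∑ i' ∈ Finset.range f, (t₁.T k hk).typ A (Quotient.mk (orbSetoid K ((-(q : ℤ)) ^ f)) (x ^ ((-(q : ℤ)) ^ i'))) i +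
        (t.T l hl).typ B (Quotient.mk (orbSetoid K (-(q : ℤ))) x) i) ∧
      (∀ (u : GU k E (q ^ f)) (y : GU l F q),
        Matrix.GeneralLinearGroup.det ((j (u, y) : GU n F q) : GL (Fin n) F) =
          nrm F E (Matrix.GeneralLinearGroup.det (u : GL (Fin k) E)) *
            Matrix.GeneralLinearGroup.det (y : GL (Fin l) F)) ∧
      Val (t.R n hn) (t₁.R k hk) (t.R l hl) j (j (gsc k z hE.unit, 1)) := by
  have := hE.tower
  obtain ⟨j, hj, hjr, hjm, hjd⟩ := exists_odd (K := K) (m := l) (k := k) (n := n) hF hfo hE.finrank (by omega) z hE.unit hE.ne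
    hE.adj
  obtain ⟨a, ha⟩ := hE.ppow
  have htyp : ∀ (A : GU k E (q ^ f)) (B : GU l F q) (x : Kˣ) (i : ℕ),
        (t.T n hn).typ (j (A, B)) (Quotient.mk (orbSetoid K (-(q : ℤ))) x) i =
        ∑ i' ∈ Finset.range f, (t₁.T k hk).typ A (Quotient.mk (orbSetoid K ((-(q : ℤ)) ^ f)) (x ^ ((-(q : ℤ)) ^ i'))) i +
        (t.T l hl).typ B (Quotient.mk (orbSetoid K (-(q : ℤ))) x) i := by
    intro A B x i
    rw [ht n hn, ht l hl, hjm]
    congr 1
    refine Finset.sum_congr rfl fun i' _ => ?_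
    rw [ht₁ k hk]
  exact ⟨j, hj, hjr, htyp, hjd, t.val hp hfo.pos h67 t₁ hn hl hk j (gsc k z hE.unit)
    (z := Units.map (algebraMap E K).toMonoidHom z) (a₀ := a)
    (by rw [← map_pow, ← ha, pow_orderOf_eq_one, map_one])
    (fun h => hE.ne ((Units.map_injective (f := (algebraMap E K).toMonoidHom) (algebraMap E K).injective) (by rw [h, map_one])))
    hE.min htyp
    (fun A y => by
      rw [ht₁ k hk, ht₁ k hk]
      exact mcol_scl z _ y)⟩

/-- **The reduction step, even case.** -/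
theorem step_even (hp : p.Prime) (hF : Fintype.card F = q ^ 2) {g : ℕ} (hg : 0 < g)
    (h67 : R67 θ (-(q : ℤ)) M p (2 * g)) (t : Tow θ (-(q : ℤ)) M N p (fun n => GU n F q))
    (ht : ∀ n (hn : n ≤ N), IsTypU q n (t.T n hn)) {E : Type u} [Field E] [Finite E] [Algebra F E] [Algebra E K] {z : Eˣ}
    (hE : FEven F K q p g E z) {N₁ : ℕ} (t₁ : Tow θ ((-(q : ℤ)) ^ (2 * g)) M N₁ p (fun n => GL (Fin n) E))
    (ht₁ : ∀ n (hn : n ≤ N₁) (A : GL (Fin n) E) (x : Kˣ), (t₁.T n hn).typ A (Quotient.mk (orbSetoid K _) x) =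
      mcol (A : Matrix (Fin n) (Fin n) E) (x : K)) {n k l : ℕ} (hk : k ≤ N₁) (hl : l ≤ N)
    (hn : n ≤ N) (hnl : l + 2 * g * k = n) :
    ∃ (j : GL (Fin k) E × GU l F q →* GU n F q),
      Function.Injective j ∧
      j.range = Subgroup.centralizer ({j (scl k z, 1)} : Set (GU n F q)) ∧
      (∀ (A : GL (Fin k) E) (B : GU l F q) (x : Kˣ) (i : ℕ),
        (t.T n hn).typ (j (A, B)) (Quotient.mk (orbSetoid K (-(q : ℤ))) x) i =
        ∑ i' ∈ Finset.range (2 * g),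
          (t₁.T k hk).typ A (Quotient.mk (orbSetoid K ((-(q : ℤ)) ^ (2 * g))) (x ^ ((-(q : ℤ)) ^ i'))) i +
        (t.T l hl).typ B (Quotient.mk (orbSetoid K (-(q : ℤ))) x) i) ∧
      (∀ (u : GL (Fin k) E) (y : GU l F q),
        Matrix.GeneralLinearGroup.det ((j (u, y) : GU n F q) : GL (Fin n) F) =
          nrm F E (Matrix.GeneralLinearGroup.det u) * (nrm F E (Matrix.GeneralLinearGroup.det u) ^ q)⁻¹ *
            Matrix.GeneralLinearGroup.det (y : GL (Fin l) F)) ∧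
      Val (t.R n hn) (t₁.R k hk) (t.R l hl) j (j (scl k z, 1)) := by
  have := hE.tower
  obtain ⟨j, hj, hjr, hjm, hjd⟩ := exists_even (K := K) (m := l) (k := k) (n := n) hF hE.finrank (by omega) z hE.dual hE.adj
  obtain ⟨a, ha⟩ := hE.ppow
  have htyp : ∀ (A : GL (Fin k) E) (B : GU l F q) (x : Kˣ) (i : ℕ),
        (t.T n hn).typ (j (A, B)) (Quotient.mk (orbSetoid K (-(q : ℤ))) x) i =
        ∑ i' ∈ Finset.range (2 * g),
          (t₁.T k hk).typ A (Quotient.mk (orbSetoid K ((-(q : ℤ)) ^ (2 * g))) (x ^ ((-(q : ℤ)) ^ i'))) i +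
        (t.T l hl).typ B (Quotient.mk (orbSetoid K (-(q : ℤ))) x) i := by
    intro A B x i
    rw [ht n hn, ht l hl, hjm]
    congr 1
    refine Finset.sum_congr rfl fun i' _ => ?_
    rw [ht₁ k hk]
  exact ⟨j, hj, hjr, htyp, hjd, t.val hp (Nat.mul_pos two_pos hg) h67 t₁ hn hl hk j (scl k z)
    (z := Units.map (algebraMap E K).toMonoidHom z) (a₀ := a)
    (by rw [← map_pow, ← ha, pow_orderOf_eq_one, map_one])
    (fun h => hE.ne ((Units.map_injective (f := (algebraMap E K).toMonoidHom) (algebraMap E K).injective) (by rw [h, map_one])))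
    hE.min htyp
    (fun A y => by
      rw [ht₁ k hk, ht₁ k hk]
      exact mcol_scl z _ y)⟩

end fields

end Cfsg.Agent.H623.GU
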