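import Cfsg.Agent.H623.GU.TypGL
import Cfsg.Agent.H794.GUT.Hom
import Cfsg.Agent.S0157

/-!
# S4537: the Weil kernel of `GL_n(F) × GL_m(F)`

The permutation character on the `n × m` matrices: `|F| ^ tip (typ g) (typ h⁻¹)`.
-/

set_option autoImplicit false

open Module Polynomial Cfsg
open scoped MatrixGroups

namespace Cfsg.Agent.H623.GU

open Cfsg.Agent.H152 Cfsg.Agent.H615.GU Cfsg.Agent.H794.GUT

universe u v w x

section dims

variable {F : Type u} [Field F] [Fintype F] {K : Type w} [Field K] [Finite K] [Algebra F K]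
  {V : Type v} [AddCommGroup V] [Module F V] [FiniteDimensional F V]
  {W : Type x} [AddCommGroup W] [Module F W] [FiniteDimensional F W]

/-- the dimension of the space of intertwiners -/
theorem finrank_HmG {T : End F V} (hT : KSp K T) (S : End F W) :
    finrank F (Hm T S) = tip (dOrb K (Fintype.card F : ℤ)) (tyG K T) (tyG K S) := by
  classical
  have hfK := Fintype.ofFinite K
  obtain ⟨D, p, e, v, hd⟩ := exists_dec T
  have hex : ∀ k, ∃ x : Kˣ, mp F x = p k := by
    intro k
    by_contra hcon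
    push Not at hcon
    have h1 := hT (p k) (hd.monic k) (hd.irr k) hcon
    have h2 := size_col_of_dec hd (hd.monic k) (hd.irr k)
    rw [h1, Col.size_zero] at h2
    have h3 := (Finset.sum_eq_zero_iff.1 h2.symm) k (Finset.mem_univ k)
    rw [if_pos rfl] at h3
    exact (hd.pos k).ne' h3
  choose r hr using hex
  let P : Finset Kˣ := Finset.univ.filter fun y => ∃ k, mp F y = p k
  have hP : ∀ y, y ∈ P ↔ ∃ k, mp F y = p k := fun y => by simp [P]
  let A : Fin D → ℕ := fun k => ∑ j ∈ Finset.range (e k), cf S (p k) j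
  have hip : ∀ y : Kˣ, (tyG K T (omk F y)).ip (tyG K S (omk F y)) = ∑ k, if p k = mp F y then A k else 0 := by
    intro y
    rw [tyG_mk, tyG_mk, ip_eq _ _ (B := finrank F V) (fun j hj => by
      rw [col_apply T (mp_monic y) (mp_irr y), cf_eq_zero T (mp_monic y) (mp_irr y) hj])]
    simp_rw [col_apply T (mp_monic y) (mp_irr y), col_apply S (mp_monic y) (mp_irr y),
      cf_of_dec hd (mp_monic y) (mp_irr y), Finset.card_filter, Finset.sum_mul]
    rw [Finset.sum_comm]
    refine Finset.sum_congr rfl fun k _ => ?_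
    by_cases hk : p k = mp F y
    · simp only [hk, if_true, true_and, A]
      have h1 : Finset.range (e k) = (Finset.range (finrank F V)).filter fun j => j < e k := by
        ext j
        rw [Finset.mem_filter, Finset.mem_range, Finset.mem_range]
        have := hd.e_le k
        omega
      rw [h1, Finset.sum_filter]
      refine Finset.sum_congr rfl fun j _ => ?_
      split_ifs <;> simp
    · simp [hk]
  have hne : ∀ y : Kˣ, tyG K T (omk F y) ≠ 0 → y ∈ P := by
    intro y hy
    rw [hP]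
    by_contra hcon
    push Not at hcon
    apply hy
    rw [tyG_mk]
    ext j
    rw [col_apply T (mp_monic y) (mp_irr y), cf_of_dec hd (mp_monic y) (mp_irr y), Col.zero_apply,
      Finset.card_eq_zero, Finset.filter_false_of_mem]
    rintro k - ⟨hk, -⟩
    exact hcon k hk.symm
  have hne' : ∀ y ∈ P, tyG K T (omk F y) ≠ 0 := by
    intro y hy h0
    obtain ⟨k, hk⟩ := (hP y).1 hy
    have h1 := size_col_of_dec hd (mp_monic y) (mp_irr y)
    rw [← tyG_mk, h0, Col.size_zero] at h1
    have h2 := (Finset.sum_eq_zero_iff.1 h1.symm) k (Finset.mem_univ k)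
    rw [if_pos hk.symm] at h2
    exact (hd.pos k).ne' h2
  have hA : ∑ y ∈ P, (tyG K T (omk F y)).ip (tyG K S (omk F y)) = finrank F (Hm T S) := by
    simp_rw [hip]
    rw [Finset.sum_comm, finrank_Hm_of_cyc hd.cyc]
    refine Finset.sum_congr rfl fun k _ => ?_
    change _ = kd S (p k) (e k)
    rw [← Finset.sum_filter, Finset.sum_const, smul_eq_mul, kd_eq S (hd.monic k) (hd.irr k)]
    congr 1
    have h1 := ncard_mp (F := F) (r k)
    rw [hr] at h1
    rw [← h1, ← Set.ncard_coe_finset]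
    congr 1
    ext y
    rw [Finset.coe_filter]
    exact ⟨fun h => h.2.symm, fun h => ⟨(hP y).2 ⟨k, h⟩, Eq.symm h⟩⟩
  rw [← hA, tip, Finsupp.sum, ← Finset.sum_fiberwise_of_maps_to (s := P) (t := (tyG K T).support)
    (g := fun y => omk F y) (fun y hy => Finsupp.mem_support_iff.2 (hne' y hy))]
  refine Finset.sum_congr rfl fun i hi => ?_
  rw [Finset.sum_congr rfl (fun y hy => by rw [(Finset.mem_filter.1 hy).2]), Finset.sum_const, smul_eq_mul]
  congr 1
  rw [dOrb, Nat.card_eq_fintype_card, Fintype.card_subtype]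
  congr 1
  ext y
  constructor
  · intro h
    exact Finset.mem_filter.2 ⟨Finset.mem_univ _, (Finset.mem_filter.1 h).2⟩
  · intro h
    have h2 : omk F y = i := (Finset.mem_filter.1 h).2
    exact Finset.mem_filter.2 ⟨hne y (by rw [h2]; exact Finsupp.mem_support_iff.1 hi), h2⟩

end dims

section weil

variable {F : Type u} [Field F] [Fintype F] {K : Type w} [Field K] [Finite K] [Algebra F K] {n m : ℕ}

theorem tyG_transpose (A : Matrix (Fin n) (Fin n) F) :
    (tyG K (Matrix.toLin' A.transpose) : Ty (Orb K (Fintype.card F : ℤ))) = tyG K (Matrix.toLin' A) := by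
  ext1 o
  obtain ⟨x, rfl⟩ : ∃ x : Kˣ, omk F x = o := ⟨_, omk_out o⟩
  rw [tyG_mk, tyG_mk, mp, ← mcol_eq_col, ← mcol_eq_col, mcol, mcol, ← Cfsg.Agent.H166.GUC.colOf_transpose]
  congr 2
  ext i j
  rw [Matrix.transpose_apply, Matrix.sub_apply, Matrix.sub_apply, Matrix.map_apply, Matrix.map_apply,
    Matrix.transpose_apply, Matrix.scalar_apply]
  congr 1
  by_cases hij : i = j
  · subst hij; rfl
  · rw [Matrix.diagonal_apply_ne _ hij, Matrix.diagonal_apply_ne _ (Ne.symm hij)]

/-- the action on the `n × m` matrices -/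
def matAct (F : Type u) [Field F] (n m : ℕ) : MulAction (GL (Fin n) F × GL (Fin m) F) (Matrix (Fin n) (Fin m) F) where
  smul g X := g.1.1 * X * (g.2.1).transpose
  one_smul X := by
    change (1 : Matrix (Fin n) (Fin n) F) * X * (1 : Matrix (Fin m) (Fin m) F).transpose = X
    rw [Matrix.transpose_one, Matrix.one_mul, Matrix.mul_one]
  mul_smul g h X := by
    change (g.1.1 * h.1.1) * X * (g.2.1 * h.2.1).transpose = g.1.1 * (h.1.1 * X * h.2.1.transpose) * g.2.1.transpose
    rw [Matrix.transpose_mul]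
    simp only [Matrix.mul_assoc]

/-- the fixed points -/
theorem card_fix (hn : ∀ h : F[X], h.Monic → h.natDegree ≤ n → (h.map (algebraMap F K)).Splits)
    (hm : ∀ h : F[X], h.Monic → h.natDegree ≤ m → (h.map (algebraMap F K)).Splits)
    (g : GL (Fin n) F) (h : GL (Fin m) F) :
    Nat.card {X : Matrix (Fin n) (Fin m) F // g.1 * X * (h.1).transpose = X} =
      Fintype.card F ^ tip (dOrb K (Fintype.card F : ℤ)) ((typeGL K hn).typ g) ((typeGL K hm).typ h⁻¹) := by
  classical
  have h1 : h.1 * (h⁻¹).1 = 1 := by rw [← Units.val_mul, mul_inv_cancel, Units.val_one]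
  have h1t : (h⁻¹).1.transpose * h.1.transpose = 1 := by rw [← Matrix.transpose_mul, h1, Matrix.transpose_one]
  have h2t : h.1.transpose * (h⁻¹).1.transpose = 1 := mul_eq_one_comm.1 h1t
  have hk : KSp K (Matrix.toLin' (h⁻¹).1.transpose) := by
    refine kSp_of_splits hm (by rw [finrank_fin_fun]) ?_
    intro x y hxy
    have h3 := congrArg (Matrix.toLin' h.1.transpose) hxy
    rw [← Matrix.toLin'_mul_apply, ← Matrix.toLin'_mul_apply, h2t, Matrix.toLin'_one] at h3
    exact h3
  have h4 := finrank_HmG hk (Matrix.toLin' g.1)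
  rw [tyG_transpose, tip_comm] at h4
  change _ = Fintype.card F ^ tip (dOrb K (Fintype.card F : ℤ)) (tyG K (Matrix.toLin' g.1)) (tyG K (Matrix.toLin' (h⁻¹).1))
  rw [← h4]
  have h5 : Nat.card (Hm (Matrix.toLin' (h⁻¹).1.transpose) (Matrix.toLin' g.1)) =
      Fintype.card F ^ finrank F (Hm (Matrix.toLin' (h⁻¹).1.transpose) (Matrix.toLin' g.1)) := by
    rw [← Nat.card_eq_fintype_card]
    exact Module.natCard_eq_pow_finrank (K := F)
      (V := Hm (Matrix.toLin' (h⁻¹).1.transpose) (Matrix.toLin' g.1))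
  rw [← h5]
  refine Nat.card_congr
    { toFun := fun X => ⟨Matrix.toLin' X.1, fun y => ?_⟩
      invFun := fun Y => ⟨LinearMap.toMatrix' Y.1, ?_⟩
      left_inv := fun X => Subtype.ext (LinearMap.toMatrix'_toLin' _)
      right_inv := fun Y => Subtype.ext (Matrix.toLin'_toMatrix' _) }
  · rw [← Matrix.toLin'_mul_apply, ← Matrix.toLin'_mul_apply]
    have h6 : X.1 * (h⁻¹).1.transpose = g.1 * X.1 := by
      calc X.1 * (h⁻¹).1.transpose = g.1 * X.1 * h.1.transpose * (h⁻¹).1.transpose := by rw [X.2]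
        _ = g.1 * X.1 * (h.1.transpose * (h⁻¹).1.transpose) := Matrix.mul_assoc _ _ _
        _ = g.1 * X.1 := by rw [h2t, Matrix.mul_one]
    rw [h6]
  · have h6 : Y.1 ∘ₗ Matrix.toLin' (h⁻¹).1.transpose = Matrix.toLin' g.1 ∘ₗ Y.1 := LinearMap.ext Y.2
    have h7 := congrArg LinearMap.toMatrix' h6
    rw [LinearMap.toMatrix'_comp, LinearMap.toMatrix'_comp, LinearMap.toMatrix'_toLin', LinearMap.toMatrix'_toLin'] at h7
    rw [← h7, Matrix.mul_assoc, h1t, Matrix.mul_one]

/-- **The Weil kernel of `GL_n × GL_m`.** -/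
theorem weil_gl (hn : ∀ h : F[X], h.Monic → h.natDegree ≤ n → (h.map (algebraMap F K)).Splits)
    (hm : ∀ h : F[X], h.Monic → h.natDegree ≤ m → (h.map (algebraMap F K)).Splits) :
    IsGeneralizedCharacter (GL (Fin n) F × GL (Fin m) F) fun x =>
      (((Fintype.card F : ℤ)).sign : ℂ) ^ (n * m) * ((Fintype.card F : ℤ) : ℂ) ^
        tip (dOrb K (Fintype.card F : ℤ)) ((typeGL K hn).typ x.1) ((typeGL K hm).typ x.2⁻¹) := by
  letI := matAct F n m
  have h1 : IsCharacter (GL (Fin n) F × GL (Fin m) F) fun g =>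
      (Nat.card (MulAction.fixedBy (Matrix (Fin n) (Fin m) F) g) : ℂ) :=
    Cfsg.Agent.S0157.isCharacter_fixedBy (Matrix (Fin n) (Fin m) F)
  have hsign : (((Fintype.card F : ℕ) : ℤ)).sign = 1 := Int.sign_natCast_of_ne_zero Fintype.card_ne_zero
  have h2 : (fun x : GL (Fin n) F × GL (Fin m) F => (((Fintype.card F : ℤ)).sign : ℂ) ^ (n * m) *
      ((Fintype.card F : ℤ) : ℂ) ^
        tip (dOrb K (Fintype.card F : ℤ)) ((typeGL K hn).typ x.1) ((typeGL K hm).typ x.2⁻¹)) = fun g =>
      (Nat.card (MulAction.fixedBy (Matrix (Fin n) (Fin m) F) g) : ℂ) := by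
    funext g
    rw [hsign, Int.cast_one, one_pow, one_mul, Int.cast_natCast, ← Nat.cast_pow, ← card_fix hn hm]
    rfl
  rw [h2]
  exact Characters.Brauer.isGeneralizedCharacter_of_isCharacter h1

end weil

end Cfsg.Agent.H623.GU
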