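import Cfsg.Agent.H623.GU.GeoU
import Cfsg.Agent.H941.GU.Tow
import Cfsg.Agent.H614.GU.FldU
import Cfsg.Agent.H417.GU.Nrm
import Cfsg.Agent.H624.SlU.LemA
import Cfsg.Agent.H666.GU.GuTower

/-!
# S4537: the reduction data for the tower `GU_n(q)`

* `geoAll_gu` : `GeoAll` for the tower of the unitary groups;
* `geoA_of` : `GeoA` (helper624) from `GeoAll`.
-/

set_option autoImplicit false

open Cfsg
open scoped ComplexConjugate TensorProduct MatrixGroups

namespace Cfsg.Agent.H623.GU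

open Cfsg.Agent.H577.GLB.Std Cfsg.Agent.H614 Cfsg.Agent.H614.GLn Cfsg.Agent.H615.GU
open Cfsg.Agent.H577.GLB.Real (coP PhiF PGen frm)
open Cfsg.Agent.H112.GLB Cfsg.Agent.H608.BlockRank Cfsg.Agent.H624.Sl Cfsg.Agent.H166.GUC
open Cfsg.Agent.H521.GU (UniT)
open Cfsg.Agent.Blocks.Local Cfsg.Agent.Blocks.Basic

universe u v

section cast

variable {K : Type u} [Field K] {θ : K →*₀ ℂ} {M : ℕ} [NeZero M] {N p : ℕ} {G : ℕ → Type u} [∀ n, Group (G n)]
    [∀ n, Finite (G n)]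

theorem cast_tow {Q₁ Q₂ : ℤ} (h : Q₁ = Q₂) {φ : ∀ n, G n → Kˣ → Col}
    (ht : ∃ t : Tow θ Q₁ M N p G, ∀ n (hn : n ≤ N) (A : G n) (x : Kˣ),
      (t.T n hn).typ A (Quotient.mk (orbSetoid K Q₁) x) = φ n A x) :
    ∃ t : Tow θ Q₂ M N p G, ∀ n (hn : n ≤ N) (A : G n) (x : Kˣ),
      (t.T n hn).typ A (Quotient.mk (orbSetoid K Q₂) x) = φ n A x := by
  subst h
  exact ht

end cast

section geoA

variable {K : Type u} [Field K] {θ : K →*₀ ℂ} {Q : ℤ} {M : ℕ} [NeZero M] {N p : ℕ} {G : ℕ → Type u} [∀ n, Group (G n)]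
    [∀ n, Finite (G n)]

/-- the hypothesis of Lemma A -/
theorem geoA_of {𝔐 : Ideal AlgInt} [𝔐.IsPrime] {t : Tow θ Q M N p G} {ζ : ∀ n, G n →* ℂˣ} {a : ZMod M} {A : ℕ → Prop}
    (h : GeoAll 𝔐 t ζ a A) : H624.SlU.GeoA t.R 𝔐 ζ a (fun n hn => (t.T n hn).typ) A := by
  intro s f k l n hl hn hf hf0 hk hpk hln
  obtain ⟨X₁, i1, i2, T₁, h₁, j, u, c, hd⟩ := h s f k l n hl hn hf hf0 hk hpk hln
  exact ⟨X₁, i1, i2, h₁.rz, j, u, T₁.typ, hd.gr, hd.bij k le_rfl, hd.inj, hd.ppow, hd.range, hd.val, hd.inr, hd.typ,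
    fun x y hxy => T₁.sep x y hxy, T₁.deg, hd.conv, hd.twist, fun δ θ₀ hδ _ hθ₀ hfix => hd.whit δ θ₀ hδ hθ₀ hfix⟩

end geoA

section U

variable {F : Type u} [Field F] [Fintype F] {K : Type u} [Field K] [Algebra F K] {θ : K →*₀ ℂ} {q M N p : ℕ} [NeZero M]
  {𝔐 : Ideal AlgInt} [𝔐.IsPrime]

theorem isUnit_neg_q (hF : Fintype.card F = q ^ 2) (hp : p.Prime) (hpF : (p : F) ≠ 0) :
    IsUnit ((-(q : ℤ) : ℤ) : ZMod p) := by
  have : Fact p.Prime := ⟨hp⟩
  rw [isUnit_iff_ne_zero]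
  intro h
  rw [Int.cast_neg, neg_eq_zero, Int.cast_natCast, ZMod.natCast_eq_zero_iff] at h
  obtain ⟨r, hr⟩ := CharP.exists F
  obtain ⟨n, hr', hn⟩ := FiniteField.card F r
  have h1 : p ∣ r ^ (n : ℕ) := by
    rw [← hn, hF]
    exact h.trans (dvd_pow_self q two_ne_zero)
  have h2 : p = r := (Nat.prime_dvd_prime_iff_eq hp hr').1 (hp.dvd_of_dvd_pow h1)
  exact hpF (by rw [h2]; exact CharP.cast_eq_zero F r)

/-- the linear characters with `p'`-labels have order prime to `p` -/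
theorem pprime_dchU (hF : Fintype.card F = q ^ 2) {a : ZMod M} (ha : TorZ (-(q : ℤ)) M 1 a) (hp : p.Prime)
    (hap : PReg M p a) (n : ℕ) : PPrime p (dchU n q (alF F θ (-(q : ℤ)) M a)) := by
  refine ⟨addOrderOf a, addOrderOf_pos a, ?_, fun g => ?_⟩
  · intro h
    have h1 := Nat.dvd_gcd h dvd_rfl
    rw [hap] at h1
    exact hp.one_lt.ne' (Nat.dvd_one.1 h1)
  · apply Units.ext
    rw [Units.val_pow_eq_pow_val, Units.val_one]
    change ((alF F θ (-(q : ℤ)) M a (Matrix.GeneralLinearGroup.det (g : GL (Fin n) F)) : ℂˣ) : ℂ) ^ addOrderOf a = 1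
    rw [alF_coe]
    obtain ⟨y, hy⟩ : ∃ y : Kˣ, y = Units.map ((algebraMap F K : F →+* K) : F →* K)
      (Matrix.GeneralLinearGroup.det (g : GL (Fin n) F)) := ⟨_, rfl⟩
    have hyc : algebraMap F K ((Matrix.GeneralLinearGroup.det (g : GL (Fin n) F) : Fˣ) : F) = (y : K) := by
      rw [hy]; rfl
    have hyq : y ^ (-(q : ℤ) - 1) = 1 := by
      rcases Nat.eq_zero_or_pos n with rfl | hn
      · have h1 : Matrix.GeneralLinearGroup.det (g : GL (Fin 0) F) = 1 := by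
          apply Units.ext
          exact Matrix.det_isEmpty
        rw [hy, h1, map_one, one_zpow]
      · rw [hy]
        exact H666.GU.fU_pow (K := K) (by rw [Nat.card_eq_fintype_card]; exact hF) hn g
    rw [hyc]
    have h1 := H531.GU.expoZ_mul ha
    have h2 : (M : ℤ) ∣ addOrderOf a * a.val := by
      rw [← ZMod.intCast_zmod_eq_zero_iff_dvd]
      push_cast
      rw [ZMod.natCast_zmod_val, ← nsmul_eq_mul, addOrderOf_nsmul_eq_zero]
    obtain ⟨s, hs⟩ := h2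
    have hM0 : (M : ℤ) ≠ 0 := by exact_mod_cast NeZero.ne M
    have h3 : expoZ (-(q : ℤ)) M 1 a * addOrderOf a = (-(q : ℤ) - 1) * s := by
      apply mul_right_cancel₀ hM0
      rw [pow_one] at h1
      linear_combination (addOrderOf a : ℤ) * h1 + (-(q : ℤ) - 1) * hs
    rw [← zpow_natCast, ← zpow_mul, h3, zpow_mul, ← map_zpow₀, ← Units.val_zpow_eq_zpow_val, hyq, Units.val_one, map_one,
      one_zpow]

/-- **The reduction data for the tower of the unitary groups.** -/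
theorem geoAll_gu (h𝔐 : IsPModular p 𝔐) (C : Ctx F θ N M) (hF : Fintype.card F = q ^ 2) (hpF : (p : F) ≠ 0)
    (t : Tow θ (-(q : ℤ)) M N p (fun n => GU n F q)) (ht : ∀ n (hn : n ≤ N), IsTypU q n (t.T n hn))
    {a : ZMod M} (ha : TorZ (-(q : ℤ)) M 1 a) (hap : PReg M p a) :
    GeoAll 𝔐 t (fun n => dchU n q (alF F θ (-(q : ℤ)) M a)) a
      (fun i => ∀ z : Fˣ, alF F θ (-(q : ℤ)) M a (z * (z ^ q)⁻¹) ^ i = 1) := by
  have hp : p.Prime := h𝔐.1
  have := C.finK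
  have hF' : Nat.card F = q ^ 2 := by rw [Nat.card_eq_fintype_card]; exact hF
  have ctx : CtxQ θ (-(q : ℤ)) M N := H614.GU.ctxQ_of_ctx C hF'
  have hu := isUnit_neg_q hF hp hpF
  intro s f k l n hl hn hf hf0 hk0 hpk hln
  have hfk : f * k ≤ N := by omega
  have hfN : f ≤ N := (Nat.le_mul_of_pos_right f hk0).trans hfk
  rcases Nat.even_or_odd f with hfe | hfo
  · obtain ⟨g, hg⟩ := hfe
    rw [← two_mul] at hg
    subst hg
    have hg0 : 0 < g := by omega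
    obtain ⟨E, _, _, _, _, z, hE, hcE, hCE, hctxE⟩ := H614.GU.exists_feven C hF' hp hu s hf hfN
    have := Fintype.ofFinite E
    have hgk : g * k ≤ N := by
      have : g * k ≤ 2 * g * k := Nat.mul_le_mul_right k (by omega)
      omega
    have hQ : ((Fintype.card E : ℕ) : ℤ) = (-(q : ℤ)) ^ (2 * g) := by
      rw [← Nat.card_eq_fintype_card, hcE, Nat.cast_pow, Even.neg_pow (even_two_mul g)]
    have hpE : (p : E) ≠ 0 := by
      have := hE.tower
      intro h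
      apply hpF
      apply (algebraMap F E).injective
      rw [map_natCast, map_zero]
      exact h
    obtain ⟨t₁, ht₁⟩ := cast_tow (Q₂ := (-(q : ℤ)) ^ (2 * g)) hQ
      (φ := fun n (A : GL (Fin n) E) (x : Kˣ) => mcol (A : Matrix (Fin n) (Fin n) E) (x : K))
      (H941.GU.towG (F := E) (N := k) (by rw [hQ]; exact hctxE k hgk) (hCE k hgk) hp hpE)
    obtain ⟨j, c, hd⟩ := geoD_even h𝔐 hF hg0 ctx t ht hE t₁ ht₁ hk0 hpk le_rfl hl hn hln (hCE k hgk).spl
      (H624.SlU.torZ_pow ha (2 * g)) (pprime_dchU hF ha hp hap n)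
      (fun y => by
        have := hE.tower
        exact H417.GU.nrm_even θ hF hg0 hE.finrank ha y)
      (A := fun i => ∀ z : Fˣ, alF F θ (-(q : ℤ)) M a (z * (z ^ q)⁻¹) ^ i = 1) (fun i h => h)
    exact ⟨GL (Fin k) E, inferInstance, inferInstance, t₁.T k le_rfl, t₁.hyp k le_rfl, j, _, c, hd⟩
  · obtain ⟨E, _, _, _, _, z, hE, hcE, hCE, hctxE⟩ := H614.GU.exists_fodd C hF' hp hu s hf hfN hfo
    have := Fintype.ofFinite E
    have hQ : (-((q ^ f : ℕ) : ℤ)) = (-(q : ℤ)) ^ f := by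
      rw [hfo.neg_pow, Nat.cast_pow]
    have hpE : (p : E) ≠ 0 := by
      have := hE.tower
      intro h
      apply hpF
      apply (algebraMap F E).injective
      rw [map_natCast, map_zero]
      exact h
    obtain ⟨t₁, ht₁⟩ := cast_tow (Q₂ := (-(q : ℤ)) ^ f) hQ
      (φ := fun n (A : GU n E (q ^ f)) (x : Kˣ) => mcol ((A : GL (Fin n) E) : Matrix (Fin n) (Fin n) E) (x : K))
      (H941.GU.towU (F := E) (q := q ^ f) (N := k) (by rw [← Nat.card_eq_fintype_card]; exact hcE) (hctxE k hfk)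
        (hCE k hfk) hp hpE)
    obtain ⟨j, c, hd⟩ := geoD_odd h𝔐 hF hfo ctx t ht hE t₁ ht₁ hk0 hpk le_rfl hl hn hln (hCE k hfk).spl
      (H624.SlU.torZ_pow ha f) (pprime_dchU hF ha hp hap n)
      (fun y hy => by
        have := hE.tower
        exact H417.GU.nrm_odd θ hF hfo hE.finrank ctx ha hy)
      (A := fun i => ∀ z : Fˣ, alF F θ (-(q : ℤ)) M a (z * (z ^ q)⁻¹) ^ i = 1) (fun i h => h)
    exact ⟨GU k E (q ^ f), inferInstance, inferInstance, t₁.T k le_rfl, t₁.hyp k le_rfl, j, _, c, hd⟩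

end U

end Cfsg.Agent.H623.GU
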