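import Cfsg.Agent.H623.GU.Red
import Cfsg.Agent.H531.GU.Neck
import Cfsg.Agent.H614.GLn.AbsLab

/-!
# S4537: the realizations of the standard model given by types

`T : TypeData (dOrb K Q) Q X n` : the classes of the finite group `X` are the types of degree `n`.

* `omT θ M T` : the evaluation of the standard model at the types of the elements of `X`;
* `RzHyp θ M p T` : (R2) and (R4) for `omT`; `RzHyp.rz` : the realization;
* `rz_gr` : monomials of the wrong weight are realized by zero;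
* `absR_of` : the tower `T n`, `n ≤ N`, satisfies the hypotheses of `AbsR.bij`; `rz_bij`.
-/

set_option autoImplicit false

open Cfsg
open scoped ComplexConjugate TensorProduct

namespace Cfsg.Agent.H623.GU

open Cfsg.Agent.H577.GLB.Std Cfsg.Agent.H614 Cfsg.Agent.H614.GLn Cfsg.Agent.H615.GU
open Cfsg.Agent.H112.GLB Cfsg.Agent.H608.BlockRank Cfsg.Agent.H531.GU

universe u v

section one

variable {K : Type v} [Field K] {Q : ℤ} {X : Type u} [Group X] {n : ℕ}

/-- the realization given by the types -/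
noncomputable def omT (θ : K →*₀ ℂ) (M : ℕ) (T : TypeData (dOrb K Q) Q X n) : RS M →ₗ[ℂ] (X → ℂ) :=
  LinearMap.pi fun g => LinearMap.proj (T.typ g) ∘ₗ H615.GU.evR θ Q M

@[simp] theorem omT_apply (θ : K →*₀ ℂ) (M : ℕ) (T : TypeData (dOrb K Q) Q X n) (x : RS M) (g : X) :
    omT θ M T x g = H615.GU.evR θ Q M x (T.typ g) := rfl

/-- (R2) and (R4) for the realization given by the types -/
structure RzHyp (θ : K →*₀ ℂ) (M : ℕ) [NeZero M] (p : ℕ) (T : TypeData (dOrb K Q) Q X n) : Prop where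
  unit : IsUnit (Q : ZMod M)
  iso : ∀ [Fintype X], ∀ x ∈ Hom Q M n, ∀ y ∈ Hom Q M n, classInner (omT θ M T x) (omT θ M T y) = form Q M x y
  tau : ∀ x ∈ Hom Q M n, omT θ M T (tauP Q M p x) = pReg p (omT θ M T x)

variable {θ : K →*₀ ℂ} {M : ℕ} [NeZero M] {p : ℕ} {T : TypeData (dOrb K Q) Q X n}

/-- the realization -/
noncomputable def RzHyp.rz (h : RzHyp θ M p T) : Rz Q M p n X := ⟨omT θ M T, h.unit, h.iso, h.tau⟩

theorem RzHyp.rz_om (h : RzHyp θ M p T) : h.rz.om = omT θ M T := rfl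

theorem RzHyp.rz_om_apply (h : RzHyp θ M p T) (x : RS M) (g : X) : h.rz.om x g = H615.GU.evR θ Q M x (T.typ g) := rfl

theorem omT_eq_zero [Finite K] (h2 : I2S) (T : TypeData (dOrb K Q) Q X n) {x : RS M} {m : ℕ}
    (hx : x ∈ MvPolynomial.weightedHomogeneousSubmodule ℂ (fun v : Var M => v.1) m) (hm : m ≠ n) :
    omT θ M T x = 0 := by
  funext g
  rw [omT_apply, Pi.zero_apply]
  refine evR_supp θ Q M h2 hx _ ?_
  rw [T.deg]
  exact hm.symm

theorem RzHyp.gr [Finite K] (h2 : I2S) (h : RzHyp θ M p T) : Gr h.rz := by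
  intro m c hm
  rw [h.rz_om]
  refine omT_eq_zero h2 T (m := Finsupp.weight (fun v : Var M => v.1) m) ?_ hm
  rw [MvPolynomial.mem_weightedHomogeneousSubmodule]
  exact MvPolynomial.isWeightedHomogeneous_monomial _ _ _ rfl

end one

section tower

variable {K : Type v} [Field K] {θ : K →*₀ ℂ} {Q : ℤ} {M N : ℕ} [NeZero M] {G : ℕ → Type u} [∀ n, Group (G n)]
  [∀ n, Finite (G n)] {T : ∀ n, n ≤ N → TypeData (dOrb K Q) Q (G n) n} {p : ℕ}

open Classical in
/-- the realizations of a tower, zero above `N` -/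
noncomputable def omN (θ : K →*₀ ℂ) (M : ℕ) (T : ∀ n, n ≤ N → TypeData (dOrb K Q) Q (G n) n) (n : ℕ) :
    RS M →ₗ[ℂ] (G n → ℂ) :=
  if h : n ≤ N then omT θ M (T n h) else 0

theorem omN_eq {n : ℕ} (hn : n ≤ N) : omN θ M T n = omT θ M (T n hn) := dif_pos hn

/-- a tower satisfies the hypotheses of `AbsR.bij` -/
theorem absR_of (h2 : I2S) (ctx : CtxQ θ Q M N) (hE : EInt θ T) (hW : WInt T)
    (h : ∀ n (hn : n ≤ N), RzHyp θ M p (T n hn))
    (hdel : ∀ n (hn : n ≤ N), ∃ x ∈ Hom Q M n, omT θ M (T n hn) x 1 ≠ 0 ∧ ∀ g : G n, g ≠ 1 → omT θ M (T n hn) x g = 0) :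
    RSt.AbsR Q M N G (omN θ M T) where
  unit := ctx.unit
  dvd := ctx.dvd
  one := fun n hn => by
    rw [omN_eq hn]
    exact R3_one (T := T) ctx n hn
  ext := fun y hy r k x hr n hn => by
    rw [omN_eq hn]
    refine R3_ext (T := T) h2 ctx hE hW (y := y) (fun n' hn' => ?_) hr k x n hn
    have h1 := hy n' hn'
    rw [omN_eq hn'] at h1
    exact h1
  iso := fun n hn _ x hx y hy => by
    rw [omN_eq hn]
    exact (h n hn).iso x hx y hy
  del := fun n hn => by
    rw [omN_eq hn]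
    exact hdel n hn

/-- the labels classify the irreducible characters of the groups of a tower -/
theorem rz_bij (h2 : I2S) (ctx : CtxQ θ Q M N) (hE : EInt θ T) (hW : WInt T)
    (h : ∀ n (hn : n ≤ N), RzHyp θ M p (T n hn))
    (hdel : ∀ n (hn : n ≤ N), ∃ x ∈ Hom Q M n, omT θ M (T n hn) x 1 ≠ 0 ∧ ∀ g : G n, g ≠ 1 → omT θ M (T n hn) x g = 0)
    (n m : ℕ) (hn : n ≤ N) (hm : n ≤ m) : (h n hn).rz.Bij m := by
  have h1 := (absR_of h2 ctx hE hW h hdel).bij hn hm
  rw [omN_eq hn] at h1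
  exact h1

end tower

end Cfsg.Agent.H623.GU
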