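import Cfsg.Agent.H623.GU.Sec
import Cfsg.Agent.H112.GLB.Main
import Cfsg.Agent.H76.GLB.Orbit
import Cfsg.Agent.H76.GLB.ProdBlk
import Cfsg.Agent.H76.GLB.Lower
import Cfsg.Agent.H157.GLB.DG
import Cfsg.Agent.H117.GLn.LowerSpan
import Cfsg.Agent.H688.D4.F2
import Cfsg.Agent.H648.HarrisKnorr
import Cfsg.Agent.S0917
import Cfsg.Agent.S0928

/-!
# S4537 / S4536, (D4) for an abstract tower of realizations: the reduction step and the elementary abelian subgroup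

`G n` finite groups with realizations `R n : Rz Q M p n (G n)`, `n ≤ N`.

* `red` : the reduction step: for a character `χ` with `p'`-label `t` of positive weight there are `f = ord_p(Q) p ^ s`, `k`
  and `δ` with `perZ (Q ^ f) M δ = k`, and a character `χ₂` of `G (n - f k)` of weight one less, such that for EVERY
  `p`-element `u` with centralizer `X₁ × G (n - f k)` of type `(f, k)` the product of the block of the character of `X₁` with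
  label `δ` and of the block of `χ₂` induces the block of `χ`;
* `elab_step` : the elementary abelian subgroup of a defect group;
* `Geo` : the geometric hypothesis; `exists_elab` : (GB6) for the tower;
* `base_zero` : weight zero is defect zero.
-/

set_option autoImplicit false

open Cfsg
open scoped ComplexConjugate TensorProduct

namespace Cfsg.Agent.H623.GU

open Cfsg.Agent.H577.GLB.Std Cfsg.Agent.H614 Cfsg.Agent.H614.GLn Cfsg.Agent.H623.GLn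
open Cfsg.Agent.H577.GLB.Real (coP PhiF PGen frm)
open Cfsg.Agent.H112.GLB Cfsg.Agent.H608.BlockRank
open Cfsg.Agent.H117.GLn (SchP_mem_PGen lower_mem_span)
open Cfsg.Agent.H688.D4 (totW_step exists_of_totW_pos SF_step)
open Cfsg.Agent.Blocks.Local Cfsg.Agent.Blocks.Basic Cfsg.Agent.H624.Sl

universe u v

section orbit

theorem orthZ {Q : ℤ} {M : ℕ} [NeZero M] (hQ : IsUnit (Q : ZMod M)) : Cfsg.Agent.H76.GLB.Orth Q M := by
  intro m n _ t t'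
  rw [RSt.form_SchP hQ t t']
  constructor
  · rintro rfl
    rw [if_pos rfl]
  · intro h
    rw [if_neg fun h' => h (LabZ.ext h')]

end orbit

section red

variable {Q : ℤ} {M : ℕ} [NeZero M] {p N : ℕ} {𝔐 : Ideal AlgInt} {G : ℕ → Type u} [∀ n, Group (G n)] [∀ n, Finite (G n)]
  {R : ∀ n, n ≤ N → Rz Q M p n (G n)}

/-- **The reduction step**, abstract. -/
theorem red (hQ : IsUnit (Q : ZMod M)) (hQp : IsUnit (Q : ZMod p))
    (hbij : ∀ (n m : ℕ) (hn : n ≤ N), n ≤ m → (R n hn).Bij m)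
    (hgr : ∀ n (hn : n ≤ N), Gr (R n hn)) (h𝔐 : IsPModular p 𝔐) {m n : ℕ} (hn : n ≤ N) (hm : n ≤ m)
    {B : Set (IrrCharacter (G n))} (hB : IsPBlock 𝔐 B) {χ : IrrCharacter (G n)} (hχ : χ ∈ B) {t : LabZ Q M m n}
    (ht : (R n hn).IsLb χ t) (ht' : POnly M p t.t) (hw : 0 < totW Q M p t.t) :
    ∃ (s f k l : ℕ) (hl : l ≤ N) (δ : ZMod M) (χ₂ : IrrCharacter (G l)) (t₂ : LabZ Q M m l),
      f = orderOf (Q : ZMod p) * p ^ s ∧ 0 < f ∧ 0 < k ∧ ¬ p ∣ k ∧ l + f * k = n ∧ PReg M p δ ∧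
      perZ (Q ^ f) M δ = k ∧ TorZ (Q ^ f) M k δ ∧
      (∀ a : ZMod M, SF Q M p t a → ∃ i : ℕ, δ + a = (((Q ^ f : ℤ) : ZMod M)) ^ i * δ) ∧
      (R l hl).IsLb χ₂ t₂ ∧ POnly M p t₂.t ∧ totW Q M p t₂.t + 1 = totW Q M p t.t ∧
      (∀ a : ZMod M, SF Q M p t a → SF Q M p t₂ a) ∧
      ∀ (X₁ : Type u) [Group X₁] [Finite X₁] (R₁ : Rz (Q ^ f) M p k X₁), Gr R₁ →
        ∀ (j : X₁ × G l →* G n), Function.Injective j →
        ∀ u : G n, (∃ a : ℕ, orderOf u = p ^ a) → j.range = Subgroup.centralizer ({u} : Set (G n)) →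
          Val (R n hn) R₁ (R l hl) j u →
        ∀ θ₀ : IrrCharacter X₁,
          (∃ s' : ℤˣ, R₁.om (rv (Q ^ f) M k δ) = ((s' : ℤ) : ℂ) • (θ₀ : X₁ → ℂ)) →
          IsInducedBlock 𝔐 (Subgroup.centralizer ({u} : Set (G n)))
            (prodBlk (Subgroup.centralizer ({u} : Set (G n))) j (blockOf 𝔐 (θ₀ : X₁ → ℂ))
              (blockOf 𝔐 (χ₂ : G l → ℂ))) B := by
  classical
  have hp : p.Prime := h𝔐.1
  have : Fact p.Prime := ⟨hp⟩
  have := isPrime_of_isPModular h𝔐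
  obtain ⟨δ, hδ, hwδ⟩ := exists_of_totW_pos t hw
  obtain ⟨hle, l, hl, t₁, ht₁, h₁, hcol, hew, hform, hspan⟩ :
      eD Q M p δ * perZ Q M δ ≤ n ∧ ∃ l : ℕ, l = n - eD Q M p δ * perZ Q M δ ∧
      ∃ t₁ : LabZ Q M m l, POnly M p t₁.t ∧
      (∀ δ', ¬ SameZ Q M δ δ' → t₁.t δ' = t.t δ') ∧ SameCol (eD Q M p δ) (t₁.t δ) (t.t δ) ∧
      ewt (eD Q M p δ) (t₁.t δ) + 1 = ewt (eD Q M p δ) (t.t δ) ∧
      form Q M (MvPolynomial.pderiv (eD Q M p δ * perZ Q M δ, canon Q M δ) (SchP Q M t.t)) (SchP Q M t₁.t) ≠ 0 ∧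
      MvPolynomial.pderiv (eD Q M p δ * perZ Q M δ, canon Q M δ) (SchP Q M t.t) ∈ Submodule.span ℂ
        {x : RS M | ∃ t' : LabZ Q M m l, POnly M p t'.t ∧ x = SchP Q M t'.t} := by
    obtain ⟨hle, t₁, ht₁, h₁, hcol, hew, hform⟩ :=
      Cfsg.Agent.H76.GLB.exists_lower (orthZ hQ) hp hQ hQp hm t ht' δ hδ hwδ
    exact ⟨hle, _, rfl, t₁, ht₁, h₁, hcol, hew, hform, lower_mem_span hp hQ hQp hm t ht' δ hδ hwδ⟩
  obtain ⟨s, k, hsk, hpk, hk, hper, horb⟩ := Cfsg.Agent.H157.GLB.exists_split hp hQ hQp δ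
  set f := orderOf (Q : ZMod p) * p ^ s with hfdef
  have hf : 0 < f := by
    rcases Nat.eq_zero_or_pos f with h | h
    · exfalso
      rw [h, zero_mul] at hsk
      have h1 := Cfsg.Agent.H76.GLB.eD_pos (M := M) hp hQp δ
      have h2 := RSt.perZ_pos hQ δ
      exact (Nat.mul_pos h1 h2).ne' hsk
    · exact h
  rw [hsk] at hle hl hform hspan
  have hln : l ≤ n := by rw [hl]; exact Nat.sub_le _ _
  have hT : TorZ (Q ^ f) M k δ := (RSt.torZ_iff k δ).2 (by rw [hper])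
  -- the block of the smaller group
  obtain ⟨t₂, hne, hfam₂⟩ := exists_t2 hp hQ hQp (hln.trans hm) hspan t₁ hform
  have hlN : l ≤ N := hln.trans hn
  have hlab := hbij l m hlN (hln.trans hm)
  obtain ⟨χ₂, ht₂, -⟩ := hlab.2 t₂
  -- a character with a `p'`-label in the block
  obtain ⟨χ₂', hχ₂', t₂', ht₂', ht₂p⟩ := (R l hlN).exists_pOnly_mem' h𝔐 (hln.trans hm) hlab (isPBlock_blockOf (M := 𝔐) χ₂)
  have hfam' : SameFam Q M p t₂.t t₂'.t :=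
    (R l hlN).sameFam_of_mem h𝔐 (hln.trans hm) hlab (isPBlock_blockOf χ₂) (mem_blockOf_self χ₂) hχ₂' ht₂ ht₂'
  have hfam'' := Cfsg.Agent.H623.GLn.SameFam.trans' hfam₂ hfam'
  refine ⟨s, f, k, l, hlN, δ, χ₂', t₂', rfl, hf, hk, hpk, by omega, hδ, hper, hT, ?_, ht₂', ht₂p, ?_, ?_, ?_⟩
  · intro a ha
    exact horb a ha.1.2.1 ha.1.1 (ha.2 δ hδ hwδ)
  · rw [Cfsg.Agent.H157.GLB.totW_congr hp hQ hQp (hln.trans hm) t₁ t₂' ht₁ ht₂p hfam'']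
    exact totW_step hp hQ hQp t t₁ δ hδ h₁ hew
  · intro a ha
    exact SF_step hp hQ hQp hm (hln.trans hm) t ht' t₁ t₂' ht₁ ht₂p δ hδ hwδ h₁ hcol hew hfam'' ha
  · intro X₁ _ _ R₁ hR₁ j hj u hu hH hval θ₀ hθ₀
    rw [← isPBlock_eq_blockOf (isPBlock_blockOf (M := 𝔐) χ₂) hχ₂']
    have := Fintype.ofFinite (Subgroup.centralizer ({u} : Set (G n)))
    obtain ⟨ψ, hψ⟩ := Cfsg.Agent.H76.GLB.exists_prodChar hj hH θ₀ χ₂
    have hpair := pairing_ne_zero hp hR₁ (hgr l hlN) hj hH hval ht (SchP_mem_PGen hQ t.t ht') hδ hf hk hT t₂ hne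
      hθ₀ ht₂ ψ hψ
    have hind := induced_of_pairing h𝔐 hu rfl hB hχ (isPBlock_blockOf ψ) (mem_blockOf_self ψ) hpair
    rwa [← Cfsg.Agent.H76.GLB.prodBlk_blockOf h𝔐 hj hH θ₀ χ₂ ψ hψ] at hind

/-- one step of the elementary abelian subgroup -/
theorem elab_step {G₀ X₁ X₂ : Type u} [Group G₀] [Finite G₀] [Group X₁] [Finite X₁] [Group X₂] [Finite X₂]
    (h𝔐 : IsPModular p 𝔐) {w : ℕ} {j : X₁ × X₂ →* G₀} (hinj : Function.Injective j) {H : Subgroup G₀} (hHr : j.range = H)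
    {c : X₁} (hc : orderOf c = p) (hcc : ∀ g, c * g = g * c) (θ₀ : IrrCharacter X₁)
    {b₂ : Set (IrrCharacter X₂)} (hb₂ : IsPBlock 𝔐 b₂) {B : Set (IrrCharacter G₀)}
    (hB : IsPBlock 𝔐 B) (hind : IsInducedBlock 𝔐 H (prodBlk H j (blockOf 𝔐 (θ₀ : X₁ → ℂ)) b₂) B)
    (h₂ : ∀ D₂ : Subgroup X₂, IsDefectGroup p 𝔐 b₂ D₂ → ∃ A : Subgroup X₂, A ≤ D₂ ∧
      (∀ x ∈ A, ∀ y ∈ A, x * y = y * x) ∧ (∀ x ∈ A, x ^ p = 1) ∧ Nat.card A = p ^ w)
    (D : Subgroup G₀) (hD : IsDefectGroup p 𝔐 B D) :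
    ∃ A : Subgroup G₀, A ≤ D ∧ (∀ x ∈ A, ∀ y ∈ A, x * y = y * x) ∧ (∀ x ∈ A, x ^ p = 1) ∧
      Nat.card A = p ^ (w + 1) := by
  have hp : p.Prime := h𝔐.1
  have : Fact p.Prime := ⟨hp⟩
  have := isPrime_of_isPModular h𝔐
  obtain ⟨D₂, hD₂⟩ := Cfsg.Agent.H648.Dict.exists_isDefectGroup h𝔐 hb₂
  obtain ⟨A₂, hA₂, hcom, hexp, hcard⟩ := h₂ D₂ hD₂
  have hZp : IsPGroup p (Subgroup.zpowers c) := by
    refine IsPGroup.of_card (n := 1) ?_
    rw [Nat.card_zpowers, hc, pow_one]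
  have hZc : Subgroup.zpowers c ≤ Subgroup.center X₁ := by
    rw [Subgroup.zpowers_le]
    exact Subgroup.mem_center_iff.2 fun g => (hcc g).symm
  have hb₁ := isPBlock_blockOf (M := 𝔐) θ₀
  obtain ⟨D', hD', hmem⟩ := Cfsg.Agent.H76.GLB.exists_defect_prod h𝔐 hinj hHr hb₁ hb₂ (Subgroup.zpowers c) hZc hZp D₂ hD₂
  have hpb : IsPBlock 𝔐 (prodBlk H j (blockOf 𝔐 (θ₀ : X₁ → ℂ)) b₂) := by
    obtain ⟨χ₂, rfl⟩ := hb₂
    obtain ⟨ψ, hψ⟩ := Cfsg.Agent.H76.GLB.exists_prodChar hinj hHr θ₀ χ₂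
    rw [Cfsg.Agent.H76.GLB.prodBlk_blockOf h𝔐 hinj hHr θ₀ χ₂ ψ hψ]
    exact isPBlock_blockOf ψ
  obtain ⟨E', hE', hle⟩ := Cfsg.Agent.S0917.result p 𝔐 h𝔐 _ _ hpb B hB hind D' hD'
  obtain ⟨x, hx⟩ := Cfsg.Agent.H648.HarrisKnorr.exists_conj_of_isDefectGroup h𝔐 hB hE' hD
  have hinj' : Function.Injective ((MulAut.conj x).toMonoidHom.comp j) :=
    (MulAut.conj x).injective.comp hinj
  refine ⟨((Subgroup.zpowers c).prod A₂).map ((MulAut.conj x).toMonoidHom.comp j), ?_, ?_, ?_, ?_⟩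
  · rw [← hx]
    rintro _ ⟨y, ⟨hy1, hy2⟩, rfl⟩
    exact ⟨_, hle (hmem y.1 hy1 y.2 (hA₂ hy2)), rfl⟩
  · rintro _ ⟨y, ⟨hy1, hy2⟩, rfl⟩ _ ⟨y', ⟨hy1', hy2'⟩, rfl⟩
    rw [← map_mul, ← map_mul]
    congr 1
    refine Prod.ext ?_ (hcom _ hy2 _ hy2')
    exact (Subgroup.mem_center_iff.1 (hZc hy1) _).symm
  · rintro _ ⟨y, ⟨hy1, hy2⟩, rfl⟩
    rw [← map_pow]
    have h1 : y ^ p = 1 := by
      refine Prod.ext ?_ (hexp _ hy2)
      rw [Prod.pow_fst, Prod.fst_one, ← hc]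
      exact orderOf_dvd_iff_pow_eq_one.1 (orderOf_dvd_of_mem_zpowers hy1)
    rw [h1, map_one]
  · rw [Nat.card_congr (Subgroup.equivMapOfInjective _ _ hinj').symm.toEquiv, Nat.card_congr (Subgroup.prodEquiv _ _).toEquiv,
      Nat.card_prod, Nat.card_zpowers, hc, hcard, pow_succ, mul_comm]

/-- the geometric hypothesis: for `f = ord_p(Q) p ^ s` and `l + f k ≤ N` there is a `p`-element `u` of `G (l + f k)` with
centralizer `X₁ × G l`, where `X₁` has a central element of order `p` and a realization of degree `k` for `Q ^ f` -/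
def Geo (R : ∀ n, n ≤ N → Rz Q M p n (G n)) : Prop :=
  ∀ (s f k l n : ℕ) (hl : l ≤ N) (hn : n ≤ N), f = orderOf (Q : ZMod p) * p ^ s → 0 < f → 0 < k → ¬ p ∣ k →
    l + f * k = n →
    ∃ (X₁ : Type u) (_ : Group X₁) (_ : Finite X₁) (R₁ : Rz (Q ^ f) M p k X₁) (j : X₁ × G l →* G n) (u : G n) (c : X₁),
      Gr R₁ ∧ R₁.Bij k ∧ Function.Injective j ∧ (∃ a : ℕ, orderOf u = p ^ a) ∧
      j.range = Subgroup.centralizer ({u} : Set (G n)) ∧ Val (R n hn) R₁ (R l hl) j u ∧ orderOf c = p ∧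
      (∀ g, c * g = g * c)

/-- the character with label `δ` of full period -/
theorem exists_cusp {X₁ : Type u} [Group X₁] [Finite X₁] {k : ℕ} (hk : 0 < k) (R₁ : Rz Q M p k X₁) (h : R₁.Bij k)
    {δ : ZMod M} (hper : perZ Q M δ = k) :
    ∃ θ₀ : IrrCharacter X₁, ∃ s' : ℤˣ, R₁.om (rv Q M k δ) = ((s' : ℤ) : ℂ) • (θ₀ : X₁ → ℂ) := by
  subst hper
  obtain ⟨t, ht, -⟩ := Cfsg.Agent.H76.GLB.exists_cuspLab R₁.unit hk δ
  obtain ⟨θ₀, ⟨s', hs'⟩, -⟩ := h.2 t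
  exact ⟨θ₀, s', by rw [← hs', ht]⟩

/-- **GB6 (D4)**, abstract: the defect group contains an elementary abelian subgroup of rank the total weight. -/
theorem exists_elab_aux (hQ : IsUnit (Q : ZMod M)) (hQp : IsUnit (Q : ZMod p))
    (hbij : ∀ (n m : ℕ) (hn : n ≤ N), n ≤ m → (R n hn).Bij m) (hgr : ∀ n (hn : n ≤ N), Gr (R n hn)) (hgeo : Geo R)
    (h𝔐 : IsPModular p 𝔐) (w : ℕ) :
    ∀ {m n : ℕ} (hn : n ≤ N), n ≤ m → ∀ {B : Set (IrrCharacter (G n))}, IsPBlock 𝔐 B →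
      ∀ {χ : IrrCharacter (G n)}, χ ∈ B → ∀ {t : LabZ Q M m n}, (R n hn).IsLb χ t →
      POnly M p t.t → totW Q M p t.t = w → ∀ D : Subgroup (G n), IsDefectGroup p 𝔐 B D →
      ∃ A : Subgroup (G n), A ≤ D ∧ (∀ x ∈ A, ∀ y ∈ A, x * y = y * x) ∧ (∀ x ∈ A, x ^ p = 1) ∧
        Nat.card A = p ^ w := by
  induction w with
  | zero =>
    intro m n hn hm B hB χ hχ t ht ht' h0 D hD
    refine ⟨⊥, bot_le, ?_, ?_, ?_⟩
    · intro x hx y hy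
      rw [Subgroup.mem_bot.1 hx, Subgroup.mem_bot.1 hy]
    · intro x hx
      rw [Subgroup.mem_bot.1 hx, one_pow]
    · rw [Subgroup.card_bot, pow_zero]
  | succ w ih =>
    intro m n hn hm B hB χ hχ t ht ht' h0 D hD
    obtain ⟨s, f, k, l, hlN, δ, χ₂, t₂, hfs, hf, hk, hpk, hl, hδ, hper, hT, horb, ht₂, ht₂p, hw, hSF, hind⟩ :=
      red hQ hQp hbij hgr h𝔐 hn hm hB hχ ht ht' (h0 ▸ Nat.succ_pos w)
    obtain ⟨X₁, i1, i2, R₁, j, u, c, hR₁, hb₁, hj, hu, hcent, hval, hc, hcc⟩ := hgeo s f k l n hlN hn hfs hf hk hpk hl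
    obtain ⟨θ₀, hθ₀⟩ := exists_cusp hk R₁ hb₁ hper
    rw [h0] at hw
    have := isPrime_of_isPModular h𝔐
    have hln : l ≤ n := by omega
    exact elab_step h𝔐 hj hcent hc hcc θ₀ (isPBlock_blockOf χ₂) hB (hind X₁ R₁ hR₁ j hj u hu hcent hval θ₀ hθ₀)
      (ih hlN (hln.trans hm) (isPBlock_blockOf χ₂) (mem_blockOf_self χ₂) ht₂ ht₂p (Nat.succ_injective hw)) D hD

/-- **GB6 (D4)**, abstract: the defect group contains an elementary abelian subgroup of rank the total weight. -/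
theorem exists_elab (hQ : IsUnit (Q : ZMod M)) (hQp : IsUnit (Q : ZMod p))
    (hbij : ∀ (n m : ℕ) (hn : n ≤ N), n ≤ m → (R n hn).Bij m) (hgr : ∀ n (hn : n ≤ N), Gr (R n hn)) (hgeo : Geo R)
    (h𝔐 : IsPModular p 𝔐) {m n : ℕ} (hn : n ≤ N) (hm : n ≤ m) {B : Set (IrrCharacter (G n))} (hB : IsPBlock 𝔐 B)
    {χ : IrrCharacter (G n)} (hχ : χ ∈ B) {t : LabZ Q M m n} (ht : (R n hn).IsLb χ t)
    (ht' : POnly M p t.t) (D : Subgroup (G n)) (hD : IsDefectGroup p 𝔐 B D) :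
    ∃ A : Subgroup (G n), A ≤ D ∧ (∀ x ∈ A, ∀ y ∈ A, x * y = y * x) ∧ (∀ x ∈ A, x ^ p = 1) ∧
      Nat.card A = p ^ totW Q M p t.t :=
  exists_elab_aux hQ hQp hbij hgr hgeo h𝔐 _ hn hm hB hχ ht ht' rfl D hD

end red

end Cfsg.Agent.H623.GU
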