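import Cfsg.Agent.H623.GU.Red
import Cfsg.Agent.H142.GLn.Base
import Cfsg.Agent.H947.GLn.CuspFix

/-!
# S4537 / S4536, (D4) for an abstract realization: the base of the chain, the fixed characters

* `base_zero` : weight zero is defect zero;
* `fix_zero` : a character of weight zero is fixed by the linear characters of the strong stabiliser;
* `cusp_fix` : the character of full period `δ` is fixed by the linear character `a` if `δ + a` is in the orbit of `δ`.
-/

set_option autoImplicit false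

open Cfsg
open scoped ComplexConjugate TensorProduct

namespace Cfsg.Agent.H623.GU

open Cfsg.Agent.H577.GLB.Std Cfsg.Agent.H614 Cfsg.Agent.H614.GLn
open Cfsg.Agent.H112.GLB Cfsg.Agent.H608.BlockRank
open Cfsg.Agent.H142.GLn (Alone tauP_eq_smul)

universe u

variable {Q : ℤ} {M : ℕ} [NeZero M] {p n : ℕ} {G : Type u} [Group G] [Finite G] {R : Rz Q M p n G}

/-- The irreducible character vanishes on the `p`-singular elements. -/
theorem vanish_of_alone (hp : p.Prime) {m : ℕ} (hm : n ≤ m) {χ : IrrCharacter G} {t : LabZ Q M m n} (ht : R.IsLb χ t)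
    (h0 : Alone Q M p t) {g : G} (hg : p ∣ orderOf g) : (χ : G → ℂ) g = 0 := by
  classical
  obtain ⟨s, hs⟩ := ht
  obtain ⟨c, hc⟩ := tauP_eq_smul R.unit hp hm h0
  have h1 := R.om_tauP t
  rw [hc, map_smul, hs] at h1
  have hs0 : (((s : ℤ) : ℂ)) ≠ 0 := by exact_mod_cast s.ne_zero
  have h3 : ∀ x : G, c * (((s : ℤ) : ℂ) * (χ : G → ℂ) x) =
      if IsPRegular p x then ((s : ℤ) : ℂ) * (χ : G → ℂ) x else 0 := by
    intro x
    have h4 := congrFun h1 x
    rw [pReg_eq, pRegularPart] at h4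
    exact h4
  have h5 := h3 1
  rw [if_pos (show IsPRegular p (1 : G) by
    rw [IsPRegular, orderOf_one]; exact fun h => hp.one_lt.ne' (Nat.dvd_one.1 h))] at h5
  have h6 : (χ : G → ℂ) 1 ≠ 0 := Cfsg.Agent.Blocks.Basic.irr_one_ne_zero χ.2
  have hc1 : c = 1 := by
    have h7 : (((s : ℤ) : ℂ) * (χ : G → ℂ) 1) ≠ 0 := mul_ne_zero hs0 h6
    exact mul_right_cancel₀ h7 (by rw [h5, one_mul])
  have h7 := h3 g
  rw [if_neg (show ¬ IsPRegular p g from fun h => h hg), hc1, one_mul] at h7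
  exact (mul_eq_zero.1 h7).resolve_left hs0

/-- Weight zero is defect zero. -/
theorem base_zero (hp : p.Prime) (hQp : IsUnit (Q : ZMod p)) {m : ℕ} (hm : n ≤ m) {χ : IrrCharacter G}
    {t : LabZ Q M m n} (ht : R.IsLb χ t) (ht' : POnly M p t.t) (h0 : totW Q M p t.t = 0) :
    (charDegree (χ : G → ℂ)).factorization p = (Nat.card G).factorization p := by
  have hpf : Fact p.Prime := ⟨hp⟩
  exact Cfsg.Agent.S0928.result p χ fun g hg => vanish_of_alone hp hm ht
    (fun t' h => Cfsg.Agent.H157.GLB.eq_of_totW_zero hp R.unit hQp hm t t' ht' h0 h) (by rw [hg])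

/-- A character of weight zero is fixed by the linear characters of the strong stabiliser. -/
theorem fix_zero (hp : p.Prime) (hQp : IsUnit (Q : ZMod p)) {m : ℕ} (hm : n ≤ m) {χ : IrrCharacter G}
    {t : LabZ Q M m n} (ht : R.IsLb χ t) (ht' : POnly M p t.t) (h0 : totW Q M p t.t = 0) {a : ZMod M}
    (ha : SF Q M p t a) {l : G → ℂ} (hl : ∀ x ∈ Hom Q M n, R.om (twist Q M a x) = l * R.om x) (g : G)
    (hg : (χ : G → ℂ) g ≠ 0) : l g = 1 := by
  obtain ⟨ha1, ha2, ha3⟩ := ha.1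
  have h1 : shiftL t ha1 = t := Cfsg.Agent.H157.GLB.eq_of_totW_zero hp R.unit hQp hm t (shiftL t ha1) ht' h0 ha3
  have h2 : (fun c => t.t (c - a)) = t.t := congrArg LabZ.t h1
  have h3 := H157.GLB.twist_SchP R.unit a ha1 t.t t.orb
  rw [h2] at h3
  obtain ⟨s, hs⟩ := ht
  have h4 := congrFun (hl _ (schP_mem_hom R.unit t)) g
  rw [h3, hs, Pi.mul_apply, Pi.smul_apply, smul_eq_mul] at h4
  have hs0 : (((s : ℤ) : ℂ)) ≠ 0 := by exact_mod_cast s.ne_zero
  have h5 : (((s : ℤ) : ℂ) * (χ : G → ℂ) g) ≠ 0 := mul_ne_zero hs0 hg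
  refine mul_right_cancel₀ h5 ?_
  rw [← h4, one_mul]

/-- The character of full period `δ` is fixed by the linear character `a` if `δ + a` is in the orbit of `δ`. -/
theorem cusp_fix (hn : 0 < n) {δ a : ZMod M} (ha : TorZ Q M 1 a) (hT : TorZ Q M n δ)
    (hδa : ∃ j : ℕ, δ + a = (Q : ZMod M) ^ j * δ) {θ₀ : IrrCharacter G} {s : ℤˣ}
    (hθ : R.om (rv Q M n δ) = ((s : ℤ) : ℂ) • (θ₀ : G → ℂ)) {l : G → ℂ}
    (hl : ∀ x ∈ Hom Q M n, R.om (twist Q M a x) = l * R.om x) (g : G) (hg : (θ₀ : G → ℂ) g ≠ 0) : l g = 1 := by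
  have htw := Cfsg.Agent.H947.GLn.twist_rv R.unit hn ha hT hδa
  have h4 := congrFun (hl _ (rv_mem_hom n δ)) g
  rw [htw, hθ, Pi.mul_apply, Pi.smul_apply, smul_eq_mul] at h4
  have hs0 : (((s : ℤ) : ℂ)) ≠ 0 := by exact_mod_cast s.ne_zero
  have h5 : (((s : ℤ) : ℂ) * (θ₀ : G → ℂ) g) ≠ 0 := mul_ne_zero hs0 hg
  refine mul_right_cancel₀ h5 ?_
  rw [← h4, one_mul]

end Cfsg.Agent.H623.GU
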