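import Cfsg.Agent.H623.GU.GeoAll
import Cfsg.Agent.H666.GU.Asm

/-!
# S4537: Lemma A and the elementary abelian subgroups for the tower `GU_n(q)`

* `lemmaA_gu` : for every block of `GU_n(q)` with a `p'`-label `t` and every `a` of the strong stabiliser of `t` there is `x`
  with `Nz 𝔐 (α ∘ det) B x`;
* `hNz_gu`, `helab_gu` : the hypotheses of `su_asm`.
-/

set_option autoImplicit false

open Cfsg
open scoped ComplexConjugate TensorProduct MatrixGroups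

namespace Cfsg.Agent.H623.GU

open Cfsg.Agent.H577.GLB.Std Cfsg.Agent.H614 Cfsg.Agent.H614.GLn Cfsg.Agent.H615.GU
open Cfsg.Agent.H112.GLB Cfsg.Agent.H608.BlockRank Cfsg.Agent.H624.Sl Cfsg.Agent.H166.GUC
open Cfsg.Agent.Blocks.Local Cfsg.Agent.Blocks.Basic

universe u

variable {F : Type u} [Field F] [Fintype F] {K : Type u} [Field K] [Algebra F K] {θ : K →*₀ ℂ} {q M N p : ℕ} [NeZero M]
  {𝔐 : Ideal AlgInt} [𝔐.IsPrime]

/-- **Lemma A for `GU_n(q)`.** -/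
theorem lemmaA_gu (h𝔐 : IsPModular p 𝔐) (C : Ctx F θ N M) (hF : Fintype.card F = q ^ 2) (hpF : (p : F) ≠ 0)
    (t : Tow θ (-(q : ℤ)) M N p (fun n => GU n F q)) (ht : ∀ n (hn : n ≤ N), IsTypU q n (t.T n hn)) {n m : ℕ}
    (hn : n ≤ N) (hm : n ≤ m) {B : Set (IrrCharacter (GU n F q))} (hB : IsPBlock 𝔐 B)
    {χ : IrrCharacter (GU n F q)} (hχ : χ ∈ B) {l : LabZ (-(q : ℤ)) M m n} (hl : (t.R n hn).IsLb χ l)
    (hl' : POnly M p l.t) {a : ZMod M} (ha : SF (-(q : ℤ)) M p l a) :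
    ∃ x : GU n F q, Nz 𝔐 (dchU n q (alF F θ (-(q : ℤ)) M a)) B x := by
  have hp : p.Prime := h𝔐.1
  have := C.finK
  have hF' : Nat.card F = q ^ 2 := by rw [Nat.card_eq_fintype_card]; exact hF
  have ctx : CtxQ θ (-(q : ℤ)) M N := H614.GU.ctxQ_of_ctx C hF'
  obtain ⟨ha1, ha2, ha3⟩ := ha.1
  have hgeo := geoA_of (geoAll_gu h𝔐 C hF hpF t ht ha1 ha2)
  refine H624.SlU.lemmaA_abs (R := t.R) ctx.unit (isUnit_neg_q hF hp hpF) (fun n m hn hm => t.bij n m hn hm)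
    (fun n hn => t.gr n hn) h𝔐 (fun n => dchU n q (alF F θ (-(q : ℤ)) M a)) (fun n _ => pprime_dchU hF ha1 hp ha2 n) a ?_
    (fun n hn => (t.T n hn).typ) ?_ (fun n hn x y h => (t.T n hn).sep x y h) (fun n hn => (t.T n hn).deg)
    (fun i => ∀ z : Fˣ, alF F θ (-(q : ℤ)) M a (z * (z ^ q)⁻¹) ^ i = 1) ?_ ?_ hgeo _ hn hm hB hχ hl hl' ha rfl
  · intro n hn x hx
    funext g
    rw [t.R_om hn, Pi.mul_apply, t.R_om hn,
      H421.GU.evR_twist ctx.card ctx.unit (fun v x => H531.GU.evR_X_mul θ _ M H521.GU.i2s v x) ha1 hx.1]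
    congr 1
    rw [H697.GW.linT_eq (fun h h1 h2 => C.spl h h1 (h2.trans hn)) θ M a (g := (g : GL (Fin n) F)) (ht n hn g)]
    change _ = ((alF F θ (-(q : ℤ)) M a (Matrix.GeneralLinearGroup.det (g : GL (Fin n) F)) : ℂˣ) : ℂ)
    rw [alF_coe]
    rfl
  · intro n hn x y hxy
    obtain ⟨c, rfl⟩ := isConj_iff.1 hxy
    exact ((t.T n hn).conj x c).symm
  · intro n hn g hg
    refine centralizer_le (K := K) hF g ?_ (alF F θ (-(q : ℤ)) M a) fun y i hi z => hg y i ?_ z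
    · exact C.spl _ (Matrix.charpoly_monic _) (by rw [Matrix.charpoly_natDegree_eq_dim, Fintype.card_fin]; exact hn)
    · rw [ht n hn]
      exact hi
  · intro n hn g hg x i hi z
    rw [ht n hn] at hi
    exact pow_eq_one hF g (alF F θ (-(q : ℤ)) M a) hg x i hi z

/-- the linear characters of helper666 -/
theorem ln_eq (C : Ctx F θ N M) (hF : Fintype.card F = q ^ 2)
    (t : Tow θ (-(q : ℤ)) M N p (fun n => GU n F q)) (ht : ∀ n (hn : n ≤ N), IsTypU q n (t.T n hn)) {n : ℕ}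
    (hn : n ≤ N) (hn0 : 0 < n) (a : ZMod M) :
    (H666.GU.TLin C hF t ht hn hn0).ln a = dchU n q (alF F θ (-(q : ℤ)) M a) := by
  ext1 g
  apply Units.ext
  refine (H666.GU.guLin_ln _ _ _ _ _ _ _ a g).trans ?_
  change _ = ((alF F θ (-(q : ℤ)) M a (Matrix.GeneralLinearGroup.det (g : GL (Fin n) F)) : ℂˣ) : ℂ)
  rw [alF_coe]
  rfl

/-- the hypothesis `hNz` of `su_asm` -/
theorem hNz_gu (h𝔐 : IsPModular p 𝔐) (C : Ctx F θ N M) (hF : Fintype.card F = q ^ 2) (hpF : (p : F) ≠ 0) (hN0 : 0 < N)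
    (t : Tow θ (-(q : ℤ)) M N p (fun n => GU n F q)) (ht : ∀ n (hn : n ≤ N), IsTypU q n (t.T n hn))
    {B : Set (IrrCharacter (GU N F q))} (hB : IsPBlock 𝔐 B) {χ : IrrCharacter (GU N F q)} (hχ : χ ∈ B)
    {l : LabZ (-(q : ℤ)) M N N} (hl : (t.R N (le_refl N)).IsLb χ l) (hl' : POnly M p l.t) (a : ZMod M)
    (ha : SF (-(q : ℤ)) M p l a) :
    ∃ x : GU N F q, Nz 𝔐 ((H666.GU.TLin C hF t ht (le_refl N) hN0).ln a) B x := by
  rw [ln_eq C hF t ht (le_refl N) hN0 a]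
  exact lemmaA_gu h𝔐 C hF hpF t ht le_rfl le_rfl hB hχ hl hl' ha

/-- elementary abelian subgroups of the defect groups -/
theorem elab_gu (h𝔐 : IsPModular p 𝔐) (C : Ctx F θ N M) (hF : Fintype.card F = q ^ 2) (hpF : (p : F) ≠ 0)
    (t : Tow θ (-(q : ℤ)) M N p (fun n => GU n F q)) (ht : ∀ n (hn : n ≤ N), IsTypU q n (t.T n hn)) {n m : ℕ}
    (hn : n ≤ N) (hm : n ≤ m) {B : Set (IrrCharacter (GU n F q))} (hB : IsPBlock 𝔐 B)
    {χ : IrrCharacter (GU n F q)} (hχ : χ ∈ B) {l : LabZ (-(q : ℤ)) M m n} (hl : (t.R n hn).IsLb χ l)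
    (hl' : POnly M p l.t) (D : Subgroup (GU n F q)) (hD : IsDefectGroup p 𝔐 B D) :
    ∃ A : Subgroup (GU n F q), A ≤ D ∧ (∀ x ∈ A, ∀ y ∈ A, x * y = y * x) ∧ (∀ x ∈ A, x ^ p = 1) ∧
      Nat.card A = p ^ totW (-(q : ℤ)) M p l.t := by
  have hp : p.Prime := h𝔐.1
  have := C.finK
  have hF' : Nat.card F = q ^ 2 := by rw [Nat.card_eq_fintype_card]; exact hF
  have ctx : CtxQ θ (-(q : ℤ)) M N := H614.GU.ctxQ_of_ctx C hF'
  have ha1 : TorZ (-(q : ℤ)) M 1 (0 : ZMod M) := by rw [TorZ, mul_zero]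
  have ha2 : PReg M p (0 : ZMod M) := by rw [PReg, addOrderOf_zero]; exact Nat.coprime_one_left p
  exact exists_elab ctx.unit (isUnit_neg_q hF hp hpF) (fun n m hn hm => t.bij n m hn hm) (fun n hn => t.gr n hn)
    (geoAll_gu h𝔐 C hF hpF t ht ha1 ha2).geo h𝔐 hn hm hB hχ hl hl' D hD

end Cfsg.Agent.H623.GU
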