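import Cfsg.Agent.H623.GU.Geo
import Cfsg.Agent.H614.GU.Fld
import Cfsg.Agent.H166.GUC.CentConv
import Cfsg.Agent.H166.GUC.ValT4
import Cfsg.Agent.H531.GU.BEven
import Cfsg.Agent.H697.GW.DetPreg
import Cfsg.Agent.H421.GU.Twist
import Cfsg.Agent.H624.SlU.Nz
import Cfsg.Agent.H624.SlU.NzGL
import Cfsg.Agent.H521.GU.Extremal

/-!
# S4537: the geometric data of the reduction step for `GU_n(q)`

* `alF` : the linear character of `Fˣ` with label `a`;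
* `GeoD` : the data of a reduction step;
* `geoD_odd`, `geoD_even` : the data for the unitary groups.
-/

set_option autoImplicit false

open Cfsg
open scoped ComplexConjugate TensorProduct MatrixGroups

namespace Cfsg.Agent.H623.GU

open Cfsg.Agent.H577.GLB.Std Cfsg.Agent.H614 Cfsg.Agent.H614.GLn Cfsg.Agent.H615.GU
open Cfsg.Agent.H577.GLB.Real (coP PhiF PGen frm)
open Cfsg.Agent.H112.GLB Cfsg.Agent.H608.BlockRank Cfsg.Agent.H624.Sl Cfsg.Agent.H166.GUC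
open Cfsg.Agent.H521.GU (UniT)
open Cfsg.Agent.Blocks.Local Cfsg.Agent.Blocks.Basic

universe u v

section alpha

variable {F : Type u} [Field F] {K : Type v} [Field K] [Algebra F K]

/-- the linear character of `Fˣ` with label `a` -/
noncomputable def alF (F : Type u) [Field F] {K : Type v} [Field K] [Algebra F K] (θ : K →*₀ ℂ) (Q : ℤ) (M : ℕ)
    (a : ZMod M) : Fˣ →* ℂˣ :=
  (zpowGroupHom (expoZ Q M 1 a)).comp
    ((Units.map (θ : K →* ℂ)).comp (Units.map ((algebraMap F K : F →+* K) : F →* K)))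

theorem alF_coe (θ : K →*₀ ℂ) (Q : ℤ) (M : ℕ) (a : ZMod M) (y : Fˣ) :
    ((alF F θ Q M a y : ℂˣ) : ℂ) = θ (algebraMap F K (y : F)) ^ expoZ Q M 1 a := by
  rw [alF, MonoidHom.comp_apply, zpowGroupHom_apply, Units.val_zpow_eq_zpow_val]
  rfl

end alpha

section data

variable {K : Type u} [Field K] {θ : K →*₀ ℂ} {Q : ℤ} {M : ℕ} [NeZero M] {N p : ℕ} {G : ℕ → Type u} [∀ n, Group (G n)]
    [∀ n, Finite (G n)]

/-- the data of a reduction step -/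
structure GeoD (𝔐 : Ideal AlgInt) [𝔐.IsPrime] (t : Tow θ Q M N p G) (ζ : ∀ n, G n →* ℂˣ) (a : ZMod M) (A : ℕ → Prop)
    {f k l n : ℕ} (hl : l ≤ N) (hn : n ≤ N) {X₁ : Type u} [Group X₁] [Finite X₁]
    {T₁ : TypeData (dOrb K (Q ^ f)) (Q ^ f) X₁ k} (h₁ : RzHyp θ M p T₁) (j : X₁ × G l →* G n) (u : G n) (c : X₁) :
    Prop where
  gr : Gr h₁.rz
  bij : ∀ m, k ≤ m → h₁.rz.Bij m
  inj : Function.Injective j
  ppow : ∃ a : ℕ, orderOf u = p ^ a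
  range : j.range = Subgroup.centralizer ({u} : Set (G n))
  val : Val (t.R n hn) h₁.rz (t.R l hl) j u
  ord : orderOf c = p
  cen : ∀ g, c * g = g * c
  inr : (ζ n).comp (j.comp (MonoidHom.inr _ _)) = ζ l
  typ : ∀ (y₁ : X₁) (y₂ : G l) (x : Kˣ) (i : ℕ), (t.T n hn).typ (j (y₁, y₂)) (Quotient.mk (orbSetoid K Q) x) i =
    ∑ e ∈ Finset.range f, T₁.typ y₁ (Quotient.mk (orbSetoid K (Q ^ f)) (x ^ (Q ^ e))) i +
      (t.T l hl).typ y₂ (Quotient.mk (orbSetoid K Q) x) i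
  conv : ∀ g : X₁, Subgroup.centralizer ({g} : Set X₁) ≤ ((ζ n).comp (j.comp (MonoidHom.inl _ _))).ker →
    ∀ (x : Kˣ) (i : ℕ), T₁.typ g (Quotient.mk (orbSetoid K (Q ^ f)) x) i ≠
      T₁.typ g (Quotient.mk (orbSetoid K (Q ^ f)) x) (i + 1) → A (i + 1)
  twist : ∀ x ∈ Hom (Q ^ f) M k, h₁.rz.om (twist (Q ^ f) M a x) =
    (fun g => ((ζ n (j (g, 1)) : ℂˣ) : ℂ)) * h₁.rz.om x
  whit : ∀ (δ : ZMod M) (θ₀ : IrrCharacter X₁), perZ (Q ^ f) M δ = k →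
    (∃ s' : ℤˣ, h₁.rz.om (rv (Q ^ f) M k δ) = ((s' : ℤ) : ℂ) • (θ₀ : X₁ → ℂ)) →
    FixIrr ((ζ n).comp (j.comp (MonoidHom.inl _ _))) (θ₀ : X₁ → ℂ) →
    ∃ x : X₁, UniT (Q ^ f) (T₁.typ x) ∧ Nz 𝔐 ((ζ n).comp (j.comp (MonoidHom.inl _ _))) (blockOf 𝔐 (θ₀ : X₁ → ℂ)) x

/-- the reduction data for all pairs `(f, k)` -/
def GeoAll (𝔐 : Ideal AlgInt) [𝔐.IsPrime] (t : Tow θ Q M N p G) (ζ : ∀ n, G n →* ℂˣ) (a : ZMod M) (A : ℕ → Prop) : Prop :=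
  ∀ (s f k l n : ℕ) (hl : l ≤ N) (hn : n ≤ N), f = orderOf (Q : ZMod p) * p ^ s → 0 < f → 0 < k → ¬ p ∣ k →
    l + f * k = n → ∃ (X₁ : Type u) (_ : Group X₁) (_ : Finite X₁) (T₁ : TypeData (dOrb K (Q ^ f)) (Q ^ f) X₁ k)
      (h₁ : RzHyp θ M p T₁) (j : X₁ × G l →* G n) (u : G n) (c : X₁), GeoD 𝔐 t ζ a A hl hn h₁ j u c

theorem GeoAll.geo {𝔐 : Ideal AlgInt} [𝔐.IsPrime] {t : Tow θ Q M N p G} {ζ : ∀ n, G n →* ℂˣ} {a : ZMod M} {A : ℕ → Prop}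
    (h : GeoAll 𝔐 t ζ a A) : Geo t.R := by
  intro s f k l n hl hn hf hf0 hk hpk hln
  obtain ⟨X₁, i1, i2, T₁, h₁, j, u, c, hd⟩ := h s f k l n hl hn hf hf0 hk hpk hln
  exact ⟨X₁, i1, i2, h₁.rz, j, u, c, hd.gr, hd.bij k le_rfl, hd.inj, hd.ppow, hd.range, hd.val, hd.ord, hd.cen⟩

end data

end Cfsg.Agent.H623.GU
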