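import Cfsg.Agent.H623.GU.GeoA
import Cfsg.Agent.H321.Ker.Unit

/-!
# S4537: the data of the reduction step for `GU_n(q)`

* `geoD_odd`, `geoD_even`.
-/

set_option autoImplicit false

open Cfsg
open scoped ComplexConjugate TensorProduct MatrixGroups

namespace Cfsg.Agent.H623.GU

open Cfsg.Agent.H577.GLB.Std Cfsg.Agent.H614 Cfsg.Agent.H614.GLn Cfsg.Agent.H615.GU
open Cfsg.Agent.H577.GLB.Real (coP PhiF PGen frm)
open Cfsg.Agent.H112.GLB Cfsg.Agent.H608.BlockRank Cfsg.Agent.H624.Sl Cfsg.Agent.H166.GUC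
open Cfsg.Agent.H521.GU (UniT)
open Cfsg.Agent.H624.SlU (exists_unipotent_nzU exists_unipotent_nz_val)
open Cfsg.Agent.Blocks.Local Cfsg.Agent.Blocks.Basic

universe u v

section U

variable {F : Type u} [Field F] [Fintype F] {K : Type u} [Field K] [Algebra F K] {θ : K →*₀ ℂ} {q M N p : ℕ} [NeZero M]
  {𝔐 : Ideal AlgInt} [𝔐.IsPrime]

/-- a `p`-element of the norm-one group -/
theorem dvd_of_ppow {E : Type u} [Field E] (hp : p.Prime) {z : Eˣ} (hz : ∃ a : ℕ, orderOf z = p ^ a) (hz1 : z ≠ 1) {m : ℕ}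
    (hm : z ^ m = 1) : p ∣ m := by
  obtain ⟨a, ha⟩ := hz
  have ha0 : a ≠ 0 := by
    rintro rfl
    rw [pow_zero, orderOf_eq_one_iff] at ha
    exact hz1 ha
  exact (dvd_pow_self p ha0).trans (ha ▸ orderOf_dvd_of_pow_eq_one hm)

theorem pow_pow_odd {q f : ℕ} (hF : Fintype.card F = q ^ 2) (hfo : Odd f) (w : Fˣ) : w ^ (q ^ f) = w ^ q := by
  obtain ⟨r, hr⟩ := hfo
  subst hr
  induction r with
  | zero => rw [mul_zero, zero_add, pow_one]
  | succ r ih =>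
    have h1 : q ^ (2 * (r + 1) + 1) = q ^ (2 * r + 1) * q ^ 2 := by rw [← pow_add]; ring_nf
    have h2 : w ^ (q ^ 2) = w := by
      apply Units.ext
      rw [Units.val_pow_eq_pow_val, ← hF, FiniteField.pow_card]
    rw [h1, pow_mul, ih, ← pow_mul, mul_comm, pow_mul, h2]

theorem pprime_comp {G H : Type*} [Group G] [Group H] {ζ : G →* ℂˣ} (hζ : PPrime p ζ) (f : H →* G) :
    PPrime p (ζ.comp f) := by
  obtain ⟨k, hk, hpk, h⟩ := hζ
  exact ⟨k, hk, hpk, fun g => h (f g)⟩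

/-- the determinant of `j (A, 1)` -/
theorem dchU_comp_inl {X₁ : Type u} [Group X₁] {l n : ℕ} (j : X₁ × GU l F q →* GU n F q) (α : Fˣ →* ℂˣ) (A : X₁) :
    ((dchU n q α).comp (j.comp (MonoidHom.inl _ _))) A =
      α (Matrix.GeneralLinearGroup.det ((j (A, 1) : GU n F q) : GL (Fin n) F)) := rfl

/-- **The data of the reduction step, odd case.** -/
theorem geoD_odd (h𝔐 : IsPModular p 𝔐) (hF : Fintype.card F = q ^ 2) {f : ℕ} (hfo : Odd f)
    (ctx : CtxQ θ (-(q : ℤ)) M N) (t : Tow θ (-(q : ℤ)) M N p (fun n => GU n F q))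
    (ht : ∀ n (hn : n ≤ N), IsTypU q n (t.T n hn)) {E : Type u} [Field E] [Finite E] [Algebra F E] [Algebra E K] {z : Eˣ}
    (hE : FOdd F K q p f E z) {N₁ : ℕ} (t₁ : Tow θ ((-(q : ℤ)) ^ f) M N₁ p (fun n => GU n E (q ^ f)))
    (ht₁ : ∀ n (hn : n ≤ N₁) (A : GU n E (q ^ f)) (x : Kˣ), (t₁.T n hn).typ A (Quotient.mk (orbSetoid K _) x) =
      mcol ((A : GL (Fin n) E) : Matrix (Fin n) (Fin n) E) (x : K)) {n k l : ℕ} (hk0 : 0 < k) (hpk : ¬ p ∣ k)
    (hk : k ≤ N₁) (hl : l ≤ N) (hn : n ≤ N) (hnl : l + f * k = n)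
    (hs : ∀ h : Polynomial E, h.Monic → h.natDegree ≤ k → (h.map (algebraMap E K)).Splits)
    {a : ZMod M} (ha : TorZ ((-(q : ℤ)) ^ f) M 1 a) (hα : PPrime p (dchU n q (alF F θ (-(q : ℤ)) M a)))
    (hN : ∀ y : Eˣ, y ^ (q ^ f + 1) = 1 → θ (algebraMap F K ((nrm F E y : Fˣ) : F)) ^ expoZ (-(q : ℤ)) M 1 a =
      θ (algebraMap E K (y : E)) ^ expoZ ((-(q : ℤ)) ^ f) M 1 a) {A : ℕ → Prop}
    (hA : ∀ i : ℕ, (∀ z : Fˣ, alF F θ (-(q : ℤ)) M a (z * (z ^ q)⁻¹) ^ i = 1) → A i) :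
    ∃ (j : GU k E (q ^ f) × GU l F q →* GU n F q) (c : GU k E (q ^ f)),
      GeoD 𝔐 t (fun n => dchU n q (alF F θ (-(q : ℤ)) M a)) a A hl hn (t₁.hyp k hk) j (j (gsc k z hE.unit, 1)) c := by
  have hp : p.Prime := h𝔐.1
  have := ctx.finK
  have := hE.tower
  have hq := Cfsg.Agent.ClassicalGeometry.GUBasic.two_le hF
  have hcE : Nat.card E = (q ^ f) ^ 2 := by
    rw [Module.natCard_eq_pow_finrank (K := F) (V := E), hE.finrank, Nat.card_eq_fintype_card, hF, ← pow_mul, ← pow_mul, mul_comm]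
  obtain ⟨j, hj, hjr, htyp, hdet, hval⟩ := step_odd hp hF hfo (r67 ctx hp hfo.pos) t ht hE t₁ ht₁ hk hl hn hnl
  obtain ⟨c, hc, hcc⟩ := exists_gsc hp hE.ppow hE.ne hE.unit hk0
  have hdet1 : ∀ u : GU k E (q ^ f), Matrix.GeneralLinearGroup.det ((j (u, 1) : GU n F q) : GL (Fin n) F) =
      nrm F E (Matrix.GeneralLinearGroup.det (u : GL (Fin k) E)) := by
    intro u
    rw [hdet, Subgroup.coe_one, map_one, mul_one]
  have hinl : (dchU n q (alF F θ (-(q : ℤ)) M a)).comp (j.comp (MonoidHom.inl _ _)) =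
      (dch k ((alF F θ (-(q : ℤ)) M a).comp (nrm F E))).comp (GU k E (q ^ f)).subtype := by
    ext1 u
    rw [dchU_comp_inl, hdet1]
    rfl
  have hnorm : ∀ u : GU k E (q ^ f), (Matrix.GeneralLinearGroup.det (u : GL (Fin k) E)) ^ (q ^ f + 1) = 1 := by
    intro u
    have := Fintype.ofFinite E
    have : NeZero k := ⟨hk0.ne'⟩
    exact H321.Ker.det_GU (by rw [← Nat.card_eq_fintype_card]; exact hcE) u.2
  refine ⟨j, c, ?_⟩
  refine
    { gr := t₁.gr k hk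
      bij := fun m hm => t₁.bij k m hk hm
      inj := hj
      ppow := ?_
      range := hjr
      val := hval
      ord := hc
      cen := hcc
      inr := ?_
      typ := htyp
      conv := ?_
      twist := ?_
      whit := ?_ }
  · obtain ⟨b, hb⟩ := hE.ppow
    refine ⟨b, ?_⟩
    rw [orderOf_injective j hj, Prod.orderOf_mk, orderOf_one, Nat.lcm_one_right, orderOf_gsc hk0, hb]
  · ext1 y
    change alF F θ (-(q : ℤ)) M a (Matrix.GeneralLinearGroup.det ((j (1, y) : GU n F q) : GL (Fin n) F)) =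
      alF F θ (-(q : ℤ)) M a (Matrix.GeneralLinearGroup.det (y : GL (Fin l) F))
    rw [hdet, Subgroup.coe_one, map_one, map_one, one_mul]
  · intro g hg x i hi
    have := Fintype.ofFinite E
    rw [ht₁ k hk] at hi
    rw [hinl] at hg
    refine hA (i + 1) fun w => ?_
    obtain ⟨v, hv⟩ := FiniteField.unitsMap_norm_surjective F E w
    have h1 := pow_eq_one (K := K) (by rw [← Nat.card_eq_fintype_card]; exact hcE) g
      ((alF F θ (-(q : ℤ)) M a).comp (nrm F E)) hg x i hi v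
    rw [MonoidHom.comp_apply, map_mul, map_inv, map_pow] at h1
    have hv' : nrm F E v = w := hv
    rw [hv', pow_pow_odd hF hfo] at h1
    exact h1
  · intro x hx
    funext g
    rw [RzHyp.rz_om_apply, Pi.mul_apply, RzHyp.rz_om_apply,
      H421.GU.evR_twist ctx.card (t₁.hyp k hk).unit (fun v x => H531.GU.evR_X_mul θ _ M H521.GU.i2s v x) ha hx.1]
    congr 1
    rw [H697.GW.linT_eq hs θ M a (g := (g : GL (Fin k) E)) (ht₁ k hk g)]
    change _ = ((alF F θ (-(q : ℤ)) M a (Matrix.GeneralLinearGroup.det ((j (g, 1) : GU n F q) : GL (Fin n) F)) : ℂˣ) : ℂ)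
    rw [hdet1, alF_coe, hN _ (hnorm g)]
    rfl
  · intro δ θ₀ hδ hθ₀ hfix
    obtain ⟨s', hs'⟩ := hθ₀
    have hθne : (θ₀ : GU k E (q ^ f) → ℂ) ≠ 0 := fun h0 =>
      Characters.Core.isIrr_apply_one_ne_zero θ₀.2 (by rw [h0]; rfl)
    obtain ⟨ε, hε⟩ := val_uni θ ctx.card (t₁.hyp k hk).unit (t₁.T k hk) (fun g => (g : GL (Fin k) E)) (ht₁ k hk) hθne
      (s := s') (fun g => congrFun hs' g)
    obtain ⟨x, hx, hnz⟩ := exists_unipotent_nzU h𝔐 hcE hk0 (dvd_of_ppow hp hE.ppow hE.ne hE.unit) hpk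
      (ζ := (dchU n q (alF F θ (-(q : ℤ)) M a)).comp (j.comp (MonoidHom.inl _ _)))
      (pprime_comp hα _)
      (fun g hg => by rw [dchU_comp_inl, hdet1, hg, map_one, map_one]) θ₀
      ⟨ε, fun u hu => by
        rw [hε u hu]
        congr 2
        rw [Int.cast_pow, Int.cast_neg, Int.cast_natCast, hfo.neg_pow, Nat.cast_pow]⟩ hfix
    refine ⟨x, ?_, hnz⟩
    intro o ho
    rw [(typ_uni ctx.card (t₁.hyp k hk).unit (t₁.T k hk) (u := (x : GL (Fin k) E)) hx (ht₁ k hk x)).1] at ho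
    by_contra hne
    exact ho (Finsupp.single_eq_of_ne hne)

/-- **The data of the reduction step, even case.** -/
theorem geoD_even (h𝔐 : IsPModular p 𝔐) (hF : Fintype.card F = q ^ 2) {g : ℕ} (hg : 0 < g)
    (ctx : CtxQ θ (-(q : ℤ)) M N) (t : Tow θ (-(q : ℤ)) M N p (fun n => GU n F q))
    (ht : ∀ n (hn : n ≤ N), IsTypU q n (t.T n hn)) {E : Type u} [Field E] [Finite E] [Algebra F E] [Algebra E K] {z : Eˣ}
    (hE : FEven F K q p g E z) {N₁ : ℕ} (t₁ : Tow θ ((-(q : ℤ)) ^ (2 * g)) M N₁ p (fun n => GL (Fin n) E))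
    (ht₁ : ∀ n (hn : n ≤ N₁) (A : GL (Fin n) E) (x : Kˣ), (t₁.T n hn).typ A (Quotient.mk (orbSetoid K _) x) =
      mcol (A : Matrix (Fin n) (Fin n) E) (x : K)) {n k l : ℕ} (hk0 : 0 < k) (hpk : ¬ p ∣ k)
    (hk : k ≤ N₁) (hl : l ≤ N) (hn : n ≤ N) (hnl : l + 2 * g * k = n)
    (hs : ∀ h : Polynomial E, h.Monic → h.natDegree ≤ k → (h.map (algebraMap E K)).Splits)
    {a : ZMod M} (ha : TorZ ((-(q : ℤ)) ^ (2 * g)) M 1 a) (hα : PPrime p (dchU n q (alF F θ (-(q : ℤ)) M a)))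
    (hN : ∀ y : Eˣ, θ (algebraMap F K ((nrm F E y * (nrm F E y ^ q)⁻¹ : Fˣ) : F)) ^ expoZ (-(q : ℤ)) M 1 a =
      θ (algebraMap E K (y : E)) ^ expoZ ((-(q : ℤ)) ^ (2 * g)) M 1 a) {A : ℕ → Prop}
    (hA : ∀ i : ℕ, (∀ z : Fˣ, alF F θ (-(q : ℤ)) M a (z * (z ^ q)⁻¹) ^ i = 1) → A i) :
    ∃ (j : GL (Fin k) E × GU l F q →* GU n F q) (c : GL (Fin k) E),
      GeoD 𝔐 t (fun n => dchU n q (alF F θ (-(q : ℤ)) M a)) a A hl hn (t₁.hyp k hk) j (j (scl k z, 1)) c := by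
  have hp : p.Prime := h𝔐.1
  have := ctx.finK
  have := hE.tower
  have hq := Cfsg.Agent.ClassicalGeometry.GUBasic.two_le hF
  have hcE : Nat.card E = q ^ (2 * g) := by
    rw [Module.natCard_eq_pow_finrank (K := F) (V := E), hE.finrank, Nat.card_eq_fintype_card, hF, ← pow_mul]
  obtain ⟨j, hj, hjr, htyp, hdet, hval⟩ := step_even hp hF hg (r67 ctx hp (Nat.mul_pos two_pos hg)) t ht hE t₁ ht₁ hk hl hn hnl
  obtain ⟨c, hc, hcc⟩ := Cfsg.Agent.H623.GLn.exists_scl hp hE.ppow hE.ne hk0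
  have hdet1 : ∀ u : GL (Fin k) E, Matrix.GeneralLinearGroup.det ((j (u, 1) : GU n F q) : GL (Fin n) F) =
      nrm F E (Matrix.GeneralLinearGroup.det u) * (nrm F E (Matrix.GeneralLinearGroup.det u) ^ q)⁻¹ := by
    intro u
    rw [hdet, Subgroup.coe_one, map_one, mul_one]
  have hinl : (dchU n q (alF F θ (-(q : ℤ)) M a)).comp (j.comp (MonoidHom.inl _ _)) =
      dch k ((alF F θ (-(q : ℤ)) M a).comp ((MonoidHom.id Fˣ * (powMonoidHom q)⁻¹).comp (nrm F E))) := by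
    ext1 u
    rw [dchU_comp_inl, hdet1]
    rfl
  refine ⟨j, c, ?_⟩
  refine
    { gr := t₁.gr k hk
      bij := fun m hm => t₁.bij k m hk hm
      inj := hj
      ppow := ?_
      range := hjr
      val := hval
      ord := hc
      cen := hcc
      inr := ?_
      typ := htyp
      conv := ?_
      twist := ?_
      whit := ?_ }
  · obtain ⟨b, hb⟩ := hE.ppow
    refine ⟨b, ?_⟩
    rw [orderOf_injective j hj, Prod.orderOf_mk, orderOf_one, Nat.lcm_one_right, orderOf_scl hk0, hb]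
  · ext1 y
    change alF F θ (-(q : ℤ)) M a (Matrix.GeneralLinearGroup.det ((j (1, y) : GU n F q) : GL (Fin n) F)) =
      alF F θ (-(q : ℤ)) M a (Matrix.GeneralLinearGroup.det (y : GL (Fin l) F))
    rw [hdet, map_one, map_one, one_pow, inv_one, one_mul, one_mul]
  · intro A₁ hg₁ x i hi
    rw [ht₁ k hk] at hi
    rw [hinl] at hg₁
    refine hA (i + 1) fun w => ?_
    obtain ⟨v, hv⟩ := FiniteField.unitsMap_norm_surjective F E w
    have h1 := H531.GU.bEven A₁ _ hg₁ (x : K) i hi v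
    have hv' : nrm F E v = w := hv
    rw [MonoidHom.comp_apply, MonoidHom.comp_apply, hv'] at h1
    exact h1
  · intro x hx
    funext g₁
    rw [RzHyp.rz_om_apply, Pi.mul_apply, RzHyp.rz_om_apply,
      H421.GU.evR_twist ctx.card (t₁.hyp k hk).unit (fun v x => H531.GU.evR_X_mul θ _ M H521.GU.i2s v x) ha hx.1]
    congr 1
    rw [H697.GW.linT_eq hs θ M a (g := g₁) (ht₁ k hk g₁)]
    change _ = ((alF F θ (-(q : ℤ)) M a (Matrix.GeneralLinearGroup.det ((j (g₁, 1) : GU n F q) : GL (Fin n) F)) : ℂˣ) : ℂ)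
    rw [hdet1, alF_coe, hN]
    rfl
  · intro δ θ₀ hδ hθ₀ hfix
    obtain ⟨s', hs'⟩ := hθ₀
    have hθne : (θ₀ : GL (Fin k) E → ℂ) ≠ 0 := fun h0 =>
      Characters.Core.isIrr_apply_one_ne_zero θ₀.2 (by rw [h0]; rfl)
    obtain ⟨ε, hε⟩ := val_uni θ ctx.card (t₁.hyp k hk).unit (t₁.T k hk) (fun g => g) (ht₁ k hk) hθne
      (s := s') (fun g => congrFun hs' g)
    have hpE : p ∣ Nat.card E - 1 := by
      refine dvd_of_ppow hp hE.ppow hE.ne ?_
      rw [← Nat.card_units]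
      exact pow_card_eq_one'
    obtain ⟨x, hx, hnz⟩ := exists_unipotent_nz_val h𝔐 hk0 hpE hpk
      (ζ := (dchU n q (alF F θ (-(q : ℤ)) M a)).comp (j.comp (MonoidHom.inl _ _)))
      (pprime_comp hα _)
      (fun g₁ hg₁ => by rw [dchU_comp_inl, hdet1, hg₁, map_one, one_pow, inv_one, one_mul, map_one]) θ₀
      ⟨ε, fun u hu => by
        rw [hε u hu]
        congr 2
        rw [hcE, Int.cast_pow, Int.cast_neg, Int.cast_natCast, Even.neg_pow (even_two_mul g), Nat.cast_pow]⟩ hfix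
    refine ⟨x, ?_, hnz⟩
    intro o ho
    rw [(typ_uni ctx.card (t₁.hyp k hk).unit (t₁.T k hk) (u := x) hx (ht₁ k hk x)).1] at ho
    by_contra hne
    exact ho (Finsupp.single_eq_of_ne hne)

end U

end Cfsg.Agent.H623.GU
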