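import Cfsg.Agent.H166.GUC.Mcol
import Cfsg.Agent.H794.GUT.Cols

/-!
# S4537: the columns at an eigenvalue of an extension field and at an irreducible polynomial

`mcol A x` (dimensions over `K` of the kernels of `(A - x) ^ j`) is the same as `col A φ` (dimensions over `F` of the
kernels of `φ(A) ^ j`, divided by the degree) for `φ` the minimal polynomial of `x`.
-/

set_option autoImplicit false

open Module Polynomial

namespace Cfsg.Agent.H623.GU

open Cfsg.Agent.H615.GU Cfsg.Agent.H794.GUT Cfsg.Agent.H166.GUC

universe u v

/-- the kernel of a product of pairwise coprime polynomials -/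
theorem finrank_ker_prod_coprime {K : Type u} [Field K] {V : Type v} [AddCommGroup V] [Module K V]
    [FiniteDimensional K V] (T : End K V) {ι : Type*} (s : Finset ι) (g : ι → K[X])
    (hg : (s : Set ι).Pairwise fun i j => IsCoprime (g i) (g j)) :
    finrank K (LinearMap.ker (aeval T (∏ i ∈ s, g i))) = ∑ i ∈ s, finrank K (LinearMap.ker (aeval T (g i))) := by
  classical
  induction s using Finset.induction_on with
  | empty =>
    rw [Finset.prod_empty, Finset.sum_empty, map_one]
    have h : LinearMap.ker (1 : End K V) = ⊥ := LinearMap.ker_id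
    rw [h, finrank_bot]
  | insert a s ha ih =>
    rw [Finset.prod_insert ha, Finset.sum_insert ha]
    have hc : IsCoprime (g a) (∏ i ∈ s, g i) := by
      refine IsCoprime.prod_right fun i hi => hg (by simp) (by simp [hi]) ?_
      rintro rfl
      exact ha hi
    rw [← Polynomial.sup_ker_aeval_eq_ker_aeval_mul_of_coprime T hc,
      ← ih (hg.mono (by rw [Finset.coe_insert]; exact Set.subset_insert _ _))]
    have h1 := Submodule.finrank_sup_add_finrank_inf_eq (LinearMap.ker (aeval T (g a)))
      (LinearMap.ker (aeval T (∏ i ∈ s, g i)))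
    rw [(Polynomial.disjoint_ker_aeval_of_isCoprime T hc).eq_bot, finrank_bot, add_zero] at h1
    exact h1

section ext

variable {F : Type u} [Field F] {K : Type v} [Field K] [Algebra F K] {n : ℕ}

theorem finrank_ker_toLin (A : Matrix (Fin n) (Fin n) K) :
    A.rank + finrank K (LinearMap.ker (Matrix.toLin' A)) = n := by
  have h := rank_pow_add A 1
  rw [pow_one, pow_one] at h
  exact h

theorem aeval_toLin (A : Matrix (Fin n) (Fin n) K) (f : K[X]) :
    aeval (Matrix.toLin' A) f = Matrix.toLin' (aeval A f) := by
  have h1 := Polynomial.aeval_algHom_apply (Matrix.toLinAlgEquiv' : Matrix (Fin n) (Fin n) K ≃ₐ[K] _).toAlgHom A f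
  exact h1

/-- the dimension of the kernel of a polynomial over the small field -/
theorem kd_map (A : Matrix (Fin n) (Fin n) F) (f : F[X]) :
    finrank F (LinearMap.ker (aeval (Matrix.toLin' A) f)) =
      finrank K (LinearMap.ker (aeval (Matrix.toLin' (A.map (algebraMap F K))) (f.map (algebraMap F K)))) := by
  rw [aeval_toLin, aeval_toLin]
  have h1 := finrank_ker_toLin (aeval A f)
  have h2 := finrank_ker_toLin (aeval (A.map (algebraMap F K)) (f.map (algebraMap F K)))
  have h3 : aeval (A.map (algebraMap F K)) (f.map (algebraMap F K)) = (aeval A f).map (algebraMap F K) := by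
    rw [Polynomial.aeval_map_algebraMap]
    have h4 := Polynomial.aeval_algHom_apply ((Algebra.ofId F K).mapMatrix (m := Fin n)) A f
    exact h4
  rw [h3, rank_map] at h2
  rw [h3]
  omega

/-- the kernels over the large field -/
theorem sum_mcol (A : Matrix (Fin n) (Fin n) F) (x : K) (j : ℕ) :
    ∑ i ∈ Finset.range j, mcol A x i =
      finrank K (LinearMap.ker (aeval (Matrix.toLin' (A.map (algebraMap F K))) ((X - C x) ^ j))) := by
  have h1 : aeval (Matrix.toLin' (A.map (algebraMap F K))) (X - C x : K[X]) =
      Matrix.toLin' (A.map (algebraMap F K) - Matrix.scalar (Fin n) x) := by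
    rw [map_sub, aeval_X, aeval_C, map_sub]
    congr 1
    refine LinearMap.ext fun v => ?_
    rw [Module.algebraMap_end_apply, Matrix.toLin'_apply, Matrix.scalar_apply, ← Matrix.smul_one_eq_diagonal,
      Matrix.smul_mulVec, Matrix.one_mulVec]
  rw [map_pow, h1]
  induction j with
  | zero =>
    rw [Finset.sum_range_zero, pow_zero]
    have h : LinearMap.ker (1 : End K (Fin n → K)) = ⊥ := LinearMap.ker_id
    rw [h, finrank_bot]
  | succ j ih =>
    rw [Finset.sum_range_succ, ih, add_comm]
    exact colOf_add _ j

variable [Finite F] [Finite K]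

/-- the columns at `x` are the columns at the minimal polynomial of `x` -/
theorem mcol_eq_col (A : Matrix (Fin n) (Fin n) F) (x : K) : mcol A x = col (Matrix.toLin' A) (minpoly F x) := by
  classical
  have hfd : FiniteDimensional F K := Module.Finite.of_finite
  have := Fintype.ofFinite F
  have hint : IsIntegral F x := Algebra.IsIntegral.isIntegral x
  have hmon := minpoly.monic hint
  have hirr := minpoly.irreducible hint
  have hsp : ((minpoly F x).map (algebraMap F K)).Splits := Normal.splits' (F := F) (K := K) x
  have hsep : (minpoly F x).Separable := Algebra.IsSeparable.isSeparable F x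
  have hroots := hsp.eq_prod_roots
  rw [(hmon.map (algebraMap F K)).leadingCoeff, map_one, one_mul] at hroots
  have hnd : ((minpoly F x).map (algebraMap F K)).roots.Nodup := nodup_roots (hsep.map)
  set s := ((minpoly F x).map (algebraMap F K)).roots.toFinset with hs
  have hprod : (minpoly F x).map (algebraMap F K) = ∏ y ∈ s, (X - C y) := by
    conv_lhs => rw [hroots]
    rw [hs, Finset.prod_eq_multiset_prod, Multiset.toFinset_val, hnd.dedup]
  have hcard : s.card = (minpoly F x).natDegree := by
    have h1 := congrArg Polynomial.natDegree hprod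
    rw [natDegree_map, natDegree_prod_of_monic _ _ fun y _ => monic_X_sub_C y] at h1
    simp only [natDegree_X_sub_C, Finset.sum_const, smul_eq_mul, mul_one] at h1
    exact h1.symm
  have key : ∀ j : ℕ, kd (Matrix.toLin' A) (minpoly F x) j =
      (minpoly F x).natDegree * ∑ i ∈ Finset.range j, mcol A x i := by
    intro j
    rw [kd, kd_map (K := K), Polynomial.map_pow, hprod, ← Finset.prod_pow, finrank_ker_prod_coprime]
    · rw [← hcard, ← smul_eq_mul, ← Finset.sum_const]
      refine Finset.sum_congr rfl fun y hy => ?_
      rw [← sum_mcol]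
      have hy' : aeval y (minpoly F x) = 0 := by
        have h2 := isRoot_of_mem_roots (Multiset.mem_toFinset.1 hy)
        rwa [IsRoot, eval_map_algebraMap] at h2
      obtain ⟨σ, hσ⟩ := minpoly.exists_algEquiv_of_root' (Algebra.IsAlgebraic.isAlgebraic (R := F) x) hy'
      rw [← hσ]
      have h3 : mcol A (σ x) = mcol A x := mcol_map (σ : K →ₐ[F] K) A x
      rw [h3]
    · intro y _ y' _ hyy
      exact IsCoprime.pow (Polynomial.isCoprime_X_sub_C_of_isUnit_sub (sub_ne_zero.2 hyy).isUnit)
  ext j
  rw [col_apply _ hmon hirr]
  exact (cf_of_kd hirr key j).symm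

end ext

end Cfsg.Agent.H623.GU
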