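import Cfsg.Agent.H623.GLn.D4C
import Cfsg.Agent.H623.GLn.D4R
import Cfsg.Agent.H112.GLB.Abs

/-!
# S4537 / S4536: the section pairing for abstract realizations of the standard model

`G`, `X₁`, `X₂` finite groups with realizations of degrees `n`, `k`, `l` for the parameters `Q`, `Q ^ f`, `Q`;
`j : X₁ × X₂ → G` with image `H` and `u ∈ G` such that `R.om x (u * j (A, B))` is given by the coproduct for `p`-regular
`A`, `B`.

* `Rz.Gr` : monomials of the wrong weight are realized by zero;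
* `Rz.inner_gen`, `Rz.tau_gen` : (R2), (R4) for arbitrary genuine polynomials;
* `Rz.section_pairing` : the pairing of `c ↦ χ(u c)` with a character of `H`;
* `Rz.pairing_ne_zero` : it is not zero for the characters of the reduction step.
-/

set_option autoImplicit false

open Cfsg
open scoped ComplexConjugate TensorProduct

namespace Cfsg.Agent.H623.GU

open Cfsg.Agent.H577.GLB.Std Cfsg.Agent.H614 Cfsg.Agent.H614.GLn Cfsg.Agent.H623.GLn
open Cfsg.Agent.H577.GLB.Real (coP PhiF PGen frm)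
open Cfsg.Agent.H614.GLn.RSt (form_sum_left form_monomial_left)
open Cfsg.Agent.H112.GLB Cfsg.Agent.H608.BlockRank

universe u v w

section one

variable {Q : ℤ} {M : ℕ} [NeZero M] {p n : ℕ} {G : Type u} [Group G] [Finite G]

/-- monomials of the wrong weight are realized by zero -/
def Gr (R : Rz Q M p n G) : Prop :=
  ∀ (m : Var M →₀ ℕ) (c : ℂ), Finsupp.weight (fun v : Var M => v.1) m ≠ n → R.om (MvPolynomial.monomial m c) = 0

variable {R : Rz Q M p n G}

open MvPolynomial in
/-- **(R2)** for an arbitrary genuine polynomial against a homogeneous one -/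
theorem inner_gen (hR : Gr R) [Fintype G] {a y : RS M} (ha : a ∈ GenR Q M) (hy : y ∈ Hom Q M n) :
    classInner (R.om a) (R.om y) = form Q M a y := by
  classical
  have h1 := support_sum_monomial_coeff a
  have h2 : R.om a = ∑ m ∈ a.support, R.om (monomial m (coeff m a)) := by
    conv_lhs => rw [← h1]
    rw [map_sum]
  have h3 : form Q M a y = ∑ m ∈ a.support, form Q M (monomial m (coeff m a)) y := by
    conv_lhs => rw [← h1]
    rw [form_sum_left]
  rw [h2, h3, Characters.Core.classInner_sum_left]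
  refine Finset.sum_congr rfl fun m hm => ?_
  by_cases hw : Finsupp.weight (fun v : Var M => v.1) m = n
  · exact R.iso _ (monomial_mem_hom (genVar_of_mem_genR ha hm) _ hw) _ hy
  · rw [hR m _ hw, Characters.Core.classInner_zero_left, form_monomial_left]
    have h4 : coeff m y = 0 := by
      by_contra h5
      exact hw (Hom.weight hy (mem_support_iff.2 h5))
    rw [h4, map_zero, mul_zero, zero_mul]

open MvPolynomial in
/-- a weighted homogeneous element of the wrong weight -/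
theorem om_eq_zero (hR : Gr R) {x : RS M} {m : ℕ} (hx : IsWeightedHomogeneous (fun v : Var M => v.1) x m) (hm : m ≠ n) :
    R.om x = 0 := by
  classical
  have h1 := support_sum_monomial_coeff x
  rw [← h1, map_sum]
  refine Finset.sum_eq_zero fun d hd => hR d _ ?_
  rw [hx (mem_support_iff.1 hd)]
  exact hm

open MvPolynomial in
/-- **(R4)** for an arbitrary genuine polynomial -/
theorem tau_gen (hR : Gr R) {a : RS M} (ha : a ∈ GenR Q M) : R.om (tauP Q M p a) = pReg p (R.om a) := by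
  classical
  have h1 := support_sum_monomial_coeff a
  have h2 : tauP Q M p a = ∑ m ∈ a.support, tauP Q M p (monomial m (coeff m a)) := by
    conv_lhs => rw [← h1]
    rw [map_sum]
  have h3 : R.om a = ∑ m ∈ a.support, R.om (monomial m (coeff m a)) := by
    conv_lhs => rw [← h1]
    rw [map_sum]
  rw [h2, h3, map_sum, map_sum]
  refine Finset.sum_congr rfl fun m hm => ?_
  have hmm := monomial_mem_hom (M := M) (genVar_of_mem_genR ha hm) (coeff m a) rfl
  by_cases hw : Finsupp.weight (fun v : Var M => v.1) m = n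
  · exact R.tau _ (hw ▸ hmm)
  · rw [hR m _ hw, map_zero]
    exact om_eq_zero hR (tauP_mem_hom p hmm).2 hw

end one

section sec

variable {Q : ℤ} {M : ℕ} [NeZero M] {p n k l f : ℕ} {G : Type u} [Group G] [Finite G]
  {X₁ : Type v} [Group X₁] [Finite X₁] {X₂ : Type w} [Group X₂] [Finite X₂]
  {R : Rz Q M p n G} {R₁ : Rz (Q ^ f) M p k X₁} {R₂ : Rz Q M p l X₂}

/-- the value of `om` at `g` as a functional -/
noncomputable def evR {Q : ℤ} {M : ℕ} [NeZero M] {p n : ℕ} {G : Type u} [Group G] (R : Rz Q M p n G) (g : G) :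
    RS M →ₗ[ℂ] ℂ := LinearMap.proj g ∘ₗ R.om

theorem evR_apply {Q : ℤ} {M : ℕ} [NeZero M] {p n : ℕ} {G : Type u} [Group G] (R : Rz Q M p n G) (g : G) (x : RS M) :
    evR R g x = R.om x g := rfl

/-- the values of `om` at `u (A, B)` for `p`-regular `A`, `B` are given by the coproduct -/
def Val (R : Rz Q M p n G) (R₁ : Rz (Q ^ f) M p k X₁) (R₂ : Rz Q M p l X₂) (j : X₁ × X₂ →* G) (u : G) : Prop :=
  ∀ x ∈ PGen Q M p, ∀ (A : X₁) (B : X₂), ¬ p ∣ orderOf A → ¬ p ∣ orderOf B →
    R.om x (u * j (A, B)) = LinearMap.mul' ℂ ℂ (TensorProduct.map (evR R₁ A ∘ₗ (PhiF Q M f).toLinearMap) (evR R₂ B)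
      (coP M x))

/-- **The section pairing theorem**, abstract. -/
theorem section_pairing (hp : p.Prime) (h₁ : Gr R₁) (h₂ : Gr R₂) {j : X₁ × X₂ →* G} (hj : Function.Injective j)
    {H : Subgroup G} [Fintype H] (hH : j.range = H) {u : G} (hval : Val R R₁ R₂ j u) {x : RS M}
    (hx : x ∈ PGen Q M p) {y₁ y₂ : RS M} (hy₁ : y₁ ∈ Hom (Q ^ f) M k) (hy₂ : y₂ ∈ Hom Q M l) (ψ : H → ℂ)
    (hψ : ∀ (x : X₁ × X₂) (h : H), j x = h → ψ h = R₁.om y₁ x.1 * R₂.om y₂ x.2) :
    classInner (pRegularPart p (fun c : H => R.om x (u * (c : G)))) ψ =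
      LinearMap.mul' ℂ ℂ (TensorProduct.map
        (frm (Q ^ f) M y₁ ∘ₗ (tauP (Q ^ f) M p).toLinearMap ∘ₗ (PhiF Q M f).toLinearMap)
        (frm Q M y₂ ∘ₗ (tauP Q M p).toLinearMap) (coP M x)) := by
  have := Fintype.ofFinite X₁
  have := Fintype.ofFinite X₂
  let l₁ : RS M →ₗ[ℂ] ℂ :=
    { toFun := fun a => classInner (pRegularPart p (R₁.om (PhiF Q M f a))) (R₁.om y₁)
      map_add' := fun a b => by
        rw [map_add, map_add, ← Cfsg.Agent.H646.RegInner.regMap_apply, map_add,
          Characters.Core.classInner_add_left]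
        rfl
      map_smul' := fun c a => by
        rw [map_smul, map_smul, ← Cfsg.Agent.H646.RegInner.regMap_apply, map_smul,
          Characters.Core.classInner_smul_left]
        rfl }
  let l₂ : RS M →ₗ[ℂ] ℂ :=
    { toFun := fun a => classInner (pRegularPart p (R₂.om a)) (R₂.om y₂)
      map_add' := fun a b => by
        rw [map_add, ← Cfsg.Agent.H646.RegInner.regMap_apply, map_add,
          Characters.Core.classInner_add_left]
        rfl
      map_smul' := fun c a => by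
        rw [map_smul, ← Cfsg.Agent.H646.RegInner.regMap_apply, map_smul,
          Characters.Core.classInner_smul_left]
        rfl }
  have h3 := classInner_prod hp (prodE hj hH) (fun c : H => R.om x (u * (c : G))) ψ (R₁.om y₁) (R₂.om y₂)
    (fun x => hψ x _ (coe_prodE hj hH x).symm) (fun A => evR R₁ A ∘ₗ (PhiF Q M f).toLinearMap) (fun B => evR R₂ B)
    (coP M x) ?_ l₁ l₂ (fun a => rfl) (fun a => rfl)
  · rw [h3]
    refine map_coP_congr hx ?_ ?_
    · intro a _
      change classInner (pRegularPart p (R₁.om (PhiF Q M f a))) (R₁.om y₁) = form (Q ^ f) M (tauP (Q ^ f) M p (PhiF Q M f a)) y₁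
      rw [← pReg_eq, ← tau_gen h₁ (PhiF_mem_genR f a), inner_gen h₁ (tauP_mem_genR _) hy₁]
    · intro a ha
      change classInner (pRegularPart p (R₂.om a)) (R₂.om y₂) = form Q M (tauP Q M p a) y₂
      rw [← pReg_eq, ← tau_gen h₂ (PGen_le ha), inner_gen h₂ (tauP_mem_genR _) hy₂]
  · rintro ⟨A, B⟩ hA hB
    change R.om x (u * ((prodE hj hH (A, B) : H) : G)) = _
    rw [coe_prodE]
    exact hval x hx A B hA hB

/-- **The pairing is not zero**, abstract. -/
theorem pairing_ne_zero (hp : p.Prime) (h₁ : Gr R₁) (h₂ : Gr R₂) {j : X₁ × X₂ →* G} (hj : Function.Injective j)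
    {H : Subgroup G} [Fintype H] (hH : j.range = H) {u : G} (hval : Val R R₁ R₂ j u) {m : ℕ}
    {χ : IrrCharacter G} {t : LabZ Q M m n} (ht : R.IsLb χ t) (hx : SchP Q M t.t ∈ PGen Q M p)
    {δ : ZMod M} (hδ : PReg M p δ) (hf : 0 < f) (hk : 0 < k) (hT : TorZ (Q ^ f) M k δ) (t₂ : LabZ Q M m l)
    (hne : form Q M (tauP Q M p (MvPolynomial.pderiv (f * k, canon Q M δ) (SchP Q M t.t))) (SchP Q M t₂.t) ≠ 0)
    {θ₀ : IrrCharacter X₁} (hθ₀ : ∃ s : ℤˣ, R₁.om (rv (Q ^ f) M k δ) = ((s : ℤ) : ℂ) • (θ₀ : X₁ → ℂ))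
    {χ₂ : IrrCharacter X₂} (ht₂ : R₂.IsLb χ₂ t₂) (ψ : IrrCharacter H)
    (hψ : ∀ (x : X₁ × X₂) (h : H), j x = h → (ψ : H → ℂ) h = (θ₀ : X₁ → ℂ) x.1 * (χ₂ : X₂ → ℂ) x.2) :
    classInner (pRegularPart p (fun c : H => (χ : G → ℂ) (u * (c : G)))) (ψ : H → ℂ) ≠ 0 := by
  intro h0
  obtain ⟨s, hs⟩ := ht
  obtain ⟨s₂, hs₂⟩ := ht₂
  obtain ⟨s₁, hs₁⟩ := hθ₀
  have h1 := section_pairing hp h₁ h₂ hj hH hval hx (rv_mem_hom (Q := Q ^ f) k δ) (schP_mem_hom R.unit t₂)
    ((((s₁ : ℤ) : ℂ) * ((s₂ : ℤ) : ℂ)) • (ψ : H → ℂ)) (by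
      intro x h hxh
      rw [Pi.smul_apply, hψ x h hxh, hs₁, hs₂, smul_eq_mul, Pi.smul_apply, Pi.smul_apply, smul_eq_mul, smul_eq_mul]
      ring)
  have h2 : classInner (pRegularPart p (fun c : H => R.om (SchP Q M t.t) (u * (c : G))))
      ((((s₁ : ℤ) : ℂ) * ((s₂ : ℤ) : ℂ)) • (ψ : H → ℂ)) = 0 := by
    have h3 : (fun c : H => R.om (SchP Q M t.t) (u * (c : G))) =
        ((s : ℤ) : ℂ) • (fun c : H => (χ : G → ℂ) (u * (c : G))) := by
      funext c
      rw [hs]
      rfl
    rw [h3, ← Cfsg.Agent.H646.RegInner.regMap_apply, map_smul, Characters.Core.classInner_smul_left,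
      Cfsg.Agent.H646.RegInner.regMap_apply, Characters.Core.classInner_smul_right, h0, mul_zero, mul_zero]
  rw [h2] at h1
  have h3 := section_der hp R.unit hf hk hT hδ hx
    (frm Q M (SchP Q M t₂.t) ∘ₗ (tauP Q M p).toLinearMap)
  exact mul_ne_zero (lamF_ne_zero R.unit hf hk hT) hne (h1.trans h3).symm

end sec

end Cfsg.Agent.H623.GU
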