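import Cfsg.Agent.H615.GU.Loc
import Cfsg.Agent.H615.GU.ColOf

/-!
# S4537: the type of `u (A, B)`

`z` a `p`-element whose orbit under `x ↦ x ^ Q` has size `f`; the columns of `u (A, B)` at `x` are
`∑ i < f, a (z⁻¹ x ^ (Q ^ i)) + b x`, where `a`, `b` (the columns of `A`, `B`) vanish off the `p'`-elements.  Then the type of
`u (A, B)` is the disjoint union of the type of `B` and of the type of `A` moved by `y ↦ z y`.
-/

set_option autoImplicit false

namespace Cfsg.Agent.H623.GU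

open Cfsg.Agent.H615.GU

universe w

section preg

variable {G : Type*} [CommGroup G] {p : ℕ}

theorem preg_iff {y : G} : (orderOf y).Coprime p ↔ ∃ m : ℕ, m.Coprime p ∧ y ^ m = 1 :=
  ⟨fun h => ⟨_, h, pow_orderOf_eq_one y⟩, fun ⟨_, hm, h⟩ => hm.of_dvd_left (orderOf_dvd_of_pow_eq_one h)⟩

theorem preg_mul {x y : G} (hx : (orderOf x).Coprime p) (hy : (orderOf y).Coprime p) : (orderOf (x * y)).Coprime p := by
  refine preg_iff.2 ⟨orderOf x * orderOf y, hx.mul_left hy, ?_⟩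
  rw [mul_pow, pow_mul, pow_orderOf_eq_one, one_pow, one_mul, mul_comm (orderOf x), pow_mul, pow_orderOf_eq_one, one_pow]

theorem preg_inv {x : G} (hx : (orderOf x).Coprime p) : (orderOf x⁻¹).Coprime p := by rwa [orderOf_inv]

theorem preg_zpow {x : G} (hx : (orderOf x).Coprime p) (n : ℤ) : (orderOf (x ^ n)).Coprime p := by
  refine preg_iff.2 ⟨orderOf x, hx, ?_⟩
  rw [← zpow_natCast, ← zpow_mul, mul_comm, zpow_mul, zpow_natCast, pow_orderOf_eq_one, one_zpow]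

theorem eq_one_of_preg (hp : p.Prime) {x : G} {a : ℕ} (hx : (orderOf x).Coprime p) (h : x ^ p ^ a = 1) : x = 1 := by
  rw [← orderOf_eq_one_iff]
  exact Nat.Coprime.eq_one_of_dvd (hx.pow_right a) (orderOf_dvd_of_pow_eq_one h)

theorem ppow_zpow {x : G} {a : ℕ} (h : x ^ p ^ a = 1) (n : ℤ) : (x ^ n) ^ p ^ a = 1 := by
  rw [← zpow_natCast, ← zpow_mul, mul_comm, zpow_mul, zpow_natCast, h, one_zpow]

end preg

section split

variable {K : Type w} [Field K] {Q : ℤ} {p f : ℕ}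

/-- the orbits of `z y`, `y` a `p'`-element -/
def ZOrb (K : Type w) [Field K] (Q : ℤ) (p : ℕ) (z : Kˣ) (o : Orb K Q) : Prop :=
  ∃ y : Kˣ, (orderOf y).Coprime p ∧ o = Quotient.mk (orbSetoid K Q) (z * y)

theorem mk_zpow (x : Kˣ) (i : ℕ) :
    (Quotient.mk (orbSetoid K Q) (x ^ (Q ^ i))) = Quotient.mk (orbSetoid K Q) x :=
  Quotient.sound ⟨0, i, by rw [pow_zero, zpow_one]⟩

theorem zpow_iter {z : Kˣ} (hf : z ^ (Q ^ f) = z) (j : ℕ) : z ^ (Q ^ (f * j)) = z := by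
  induction j with
  | zero => rw [mul_zero, pow_zero, zpow_one]
  | succ j ih => rw [mul_add, mul_one, pow_add, zpow_mul, ih, hf]

variable {z : Kˣ} (hp : p.Prime) {a₀ : ℕ} (hz : z ^ p ^ a₀ = 1) (hz1 : z ≠ 1) (hf0 : 0 < f) (hf : z ^ (Q ^ f) = z)
  (hmin : ∀ i : ℕ, 0 < i → i < f → z ^ (Q ^ i) ≠ z)
  {a b c : Kˣ → Col} (ha : ∀ y, a y ≠ 0 → (orderOf y).Coprime p) (hb : ∀ y, b y ≠ 0 → (orderOf y).Coprime p)
  (hc : ∀ x l, c x l = ∑ i ∈ Finset.range f, a (z⁻¹ * x ^ (Q ^ i)) l + b x l)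

include hp hz hz1 hf0 hf hb in
/-- the columns of `B` vanish on the orbits of `z y` -/
theorem b_eq_zero {x : Kˣ} (hx : ZOrb K Q p z (Quotient.mk (orbSetoid K Q) x)) : b x = 0 := by
  by_contra hbx
  obtain ⟨y, hy, hxy⟩ := hx
  obtain ⟨i, j, h⟩ := Quotient.exact hxy
  rw [mul_zpow] at h
  have h1 : (orderOf (z ^ Q ^ j)).Coprime p := by
    have h2 : z ^ Q ^ j = x ^ Q ^ i * (y ^ Q ^ j)⁻¹ := by rw [h, mul_inv_cancel_right]
    rw [h2]
    exact preg_mul (preg_zpow (hb x hbx) _) (preg_inv (preg_zpow hy _))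
  have h2 := eq_one_of_preg hp h1 (ppow_zpow hz _)
  apply hz1
  rw [← zpow_iter hf j]
  obtain ⟨r, hr⟩ : ∃ r, f * j = j + r := ⟨f * j - j, by
    have := Nat.le_mul_of_pos_left j hf0
    omega⟩
  rw [hr, pow_add, zpow_mul, h2, one_zpow]

include ha in
/-- the columns of `A` vanish off the orbits of `z y` -/
theorem a_eq_zero {x : Kˣ} (hx : ¬ ZOrb K Q p z (Quotient.mk (orbSetoid K Q) x)) (i : ℕ) : a (z⁻¹ * x ^ (Q ^ i)) = 0 := by
  by_contra h
  apply hx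
  refine ⟨_, ha _ h, ?_⟩
  rw [mul_inv_cancel_left, mk_zpow]

include hp hz hmin ha in
theorem a_eq_zero' {y : Kˣ} (hy : (orderOf y).Coprime p) {i : ℕ} (h0 : 0 < i) (hi : i < f) :
    a (z⁻¹ * (z * y) ^ (Q ^ i)) = 0 := by
  by_contra h
  apply hmin i h0 hi
  have h1 := ha _ h
  rw [mul_zpow, ← mul_assoc] at h1
  have h2 : (orderOf (z⁻¹ * z ^ Q ^ i)).Coprime p := by
    have h3 : z⁻¹ * z ^ Q ^ i = z⁻¹ * z ^ Q ^ i * y ^ Q ^ i * (y ^ Q ^ i)⁻¹ := by rw [mul_inv_cancel_right]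
    rw [h3]
    exact preg_mul h1 (preg_inv (preg_zpow hy _))
  have h4 := eq_one_of_preg hp (a := a₀) h2 (by rw [mul_pow, ppow_zpow hz, inv_pow, hz, inv_one, one_mul])
  exact (inv_mul_eq_one.1 h4).symm

open Classical in
include hp hz hz1 hf0 hf hmin ha hb hc in
/-- **The type of `u (A, B)`.** -/
theorem types_split {lam mu : Ty (Orb K Q)} {nu : Ty (Orb K (Q ^ f))}
    (hlam : ∀ x : Kˣ, lam (Quotient.mk (orbSetoid K Q) x) = c x)
    (hmu : ∀ x : Kˣ, mu (Quotient.mk (orbSetoid K Q) x) = b x)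
    (hnu : ∀ x : Kˣ, nu (Quotient.mk (orbSetoid K (Q ^ f)) x) = a x) :
    lam.filter (fun o => ¬ ZOrb K Q p z o) = mu ∧
      ∀ y : Kˣ, (orderOf y).Coprime p → lam.filter (ZOrb K Q p z) (Quotient.mk (orbSetoid K Q) (z * y)) =
        nu (Quotient.mk (orbSetoid K (Q ^ f)) y) := by
  constructor
  · ext1 o
    obtain ⟨x, rfl⟩ := Quotient.exists_rep o
    rw [hmu]
    by_cases hx : ZOrb K Q p z (Quotient.mk (orbSetoid K Q) x)
    · rw [Finsupp.filter_apply_neg (fun o => ¬ ZOrb K Q p z o) lam (not_not.2 hx), b_eq_zero hp hz hz1 hf0 hf hb hx]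
    · rw [Finsupp.filter_apply_pos (fun o => ¬ ZOrb K Q p z o) lam hx, hlam]
      ext l
      rw [hc, Finset.sum_eq_zero, zero_add]
      intro i _
      rw [a_eq_zero ha hx i, Col.zero_apply]
  · intro y hy
    have hx : ZOrb K Q p z (Quotient.mk (orbSetoid K Q) (z * y)) := ⟨y, hy, rfl⟩
    rw [Finsupp.filter_apply_pos _ _ hx, hlam, hnu]
    ext l
    rw [hc, b_eq_zero hp hz hz1 hf0 hf hb hx, Col.zero_apply, add_zero, Finset.sum_eq_single 0]
    · rw [pow_zero, zpow_one, inv_mul_cancel_left]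
    · intro i hi hi0
      rw [a_eq_zero' hp hz hmin ha hy (Nat.pos_of_ne_zero hi0) (Finset.mem_range.1 hi), Col.zero_apply]
    · intro h
      exact absurd (Finset.mem_range.2 hf0) h

end split

end Cfsg.Agent.H623.GU
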