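import Cfsg.Agent.H794.GUT.Main
import Cfsg.Agent.H623.GU.Mcol
import Cfsg.Agent.H987.Sl.KdConj

/-!
# S4537: the class data of `GL_n(F)` over the orbits of a finite field `K`

`typeGL` : `TypeData (dOrb K Q) Q (GL (Fin n) F) n` for `Q = |F|` and a finite field `K` in which all polynomials of degree
at most `n` split, with `typ g [x] = mcol g x` (`typeGL_mk`).
-/

set_option autoImplicit false

open Module Polynomial
open scoped MatrixGroups

namespace Cfsg.Agent.H623.GU

open Cfsg.Agent.H152 Cfsg.Agent.H615.GU Cfsg.Agent.H794.GUT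

universe u v w x

/-! ### orbits -/

section orbits

variable {F : Type u} [Field F] [Fintype F] {K : Type w} [Field K] [Finite K] [Algebra F K]

/-- the orbit of `x` -/
abbrev omk (F : Type u) [Field F] [Fintype F] {K : Type w} [Field K] (x : Kˣ) : Orb K (Fintype.card F : ℤ) :=
  Quotient.mk (orbSetoid K (Fintype.card F : ℤ)) x

theorem omk_eq_iff {x y : Kˣ} : omk F x = omk F y ↔ mp F x = mp F y := by
  have hz : ∀ (x : Kˣ) (i : ℕ), x ^ (((Fintype.card F : ℕ) : ℤ) ^ i) = x ^ (Fintype.card F ^ i) := by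
    intro x i
    rw [← Nat.cast_pow, zpow_natCast]
  rw [Quotient.eq]
  constructor
  · rintro ⟨i, j, h⟩
    rw [hz, hz] at h
    rw [← mp_pow x i, h, mp_pow]
  · intro h
    obtain ⟨k, hk⟩ := mp_eq_iff.1 h
    exact ⟨k, 0, by rw [hz, hz, pow_zero, pow_one, hk]⟩

theorem dOrb_mk (x : Kˣ) : dOrb K (Fintype.card F : ℤ) (omk F x) = (mp F x).natDegree := by
  rw [← ncard_mp (F := F) x, dOrb, ← Nat.card_coe_set_eq]
  exact Nat.card_congr (Equiv.subtypeEquivRight fun y => omk_eq_iff)

theorem omk_out (o : Orb K (Fintype.card F : ℤ)) : omk F o.out = o := Quotient.out_eq o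

end orbits

/-! ### the type of an endomorphism -/

section types

variable {F : Type u} [Field F] [Fintype F] {V : Type v} [AddCommGroup V] [Module F V] [FiniteDimensional F V]

/-- the type of an endomorphism -/
noncomputable def tyG (K : Type w) [Field K] [Finite K] [Algebra F K] (T : End F V) : Ty (Orb K (Fintype.card F : ℤ)) :=
  Finsupp.ofSupportFinite (fun o => col T (mp F (o.out : Kˣ))) (Set.toFinite _)

variable {K : Type w} [Field K] [Finite K] [Algebra F K]

theorem tyG_apply (T : End F V) (o : Orb K (Fintype.card F : ℤ)) : tyG K T o = col T (mp F (o.out : Kˣ)) := rfl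

theorem tyG_mk (T : End F V) (x : Kˣ) : tyG K T (omk F x) = col T (mp F x) := by
  rw [tyG_apply, omk_eq_iff.1 (omk_out (omk F x))]

theorem tyG_congr {V' : Type x} [AddCommGroup V'] [Module F V'] [FiniteDimensional F V']
    {T : End F V} {T' : End F V'} (φ : V ≃ₗ[F] V') (hφ : ∀ x, φ (T x) = T' (φ x)) :
    (tyG K T : Ty (Orb K (Fintype.card F : ℤ))) = tyG K T' := by
  ext1 o
  rw [tyG_apply, tyG_apply, col_congr φ hφ]

/-- all eigenvalues of `T` are units of `K` -/
def KSp (K : Type w) [Field K] [Algebra F K] (T : End F V) : Prop :=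
  ∀ φ : F[X], φ.Monic → Irreducible φ → (∀ x : Kˣ, mp F x ≠ φ) → col T φ = 0

theorem KSp.congr {V' : Type x} [AddCommGroup V'] [Module F V'] [FiniteDimensional F V']
    {T : End F V} {T' : End F V'} (φ : V ≃ₗ[F] V') (hφ : ∀ x, φ (T x) = T' (φ x)) (h : KSp K T) : KSp K T' :=
  fun ψ h1 h2 h3 => by rw [← col_congr φ hφ, h ψ h1 h2 h3]

theorem kSp_of_splits {n : ℕ} (hs : ∀ h : F[X], h.Monic → h.natDegree ≤ n → (h.map (algebraMap F K)).Splits)
    {T : End F V} (hn : finrank F V ≤ n) (hT : Function.Injective T) : KSp K T := by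
  intro φ hφ hirr hx
  by_cases hd : φ.natDegree ≤ n
  · have hspl := hs φ hφ hd
    obtain ⟨y, hy⟩ := hspl.exists_eval_eq_zero (by
      rw [degree_map, degree_eq_natDegree hφ.ne_zero]
      exact_mod_cast hirr.natDegree_pos.ne')
    rw [eval_map_algebraMap] at hy
    by_cases hy0 : y = 0
    · subst hy0
      have h0 : φ.coeff 0 = 0 := by
        rw [← coeff_zero_eq_aeval_zero'] at hy
        exact (algebraMap F K).injective (hy.trans (map_zero _).symm)
      rw [eq_X_of_coeff hφ hirr h0]
      exact col_X hT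
    · exact absurd (mp_eq_of_root (x := Units.mk0 y hy0) hφ hirr hy) (hx _)
  · rw [kd_zero_iff T hφ hirr]
    have h1 := kd_eq T hφ hirr 1
    have h2 : kd T φ 1 ≤ finrank F V := Submodule.finrank_le _
    rw [Finset.sum_range_one] at h1
    rcases Nat.eq_zero_or_pos (cf T φ 0) with h3 | h3
    · rw [h1, h3, mul_zero]
    · have h4 := Nat.le_mul_of_pos_right φ.natDegree h3
      omega

/-- the degree formula -/
theorem tdeg_tyG {T : End F V} (hT : KSp K T) : tdeg (dOrb K (Fintype.card F : ℤ)) (tyG K T) = finrank F V := by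
  classical
  have hfK := Fintype.ofFinite K
  obtain ⟨D, p, e, v, hd⟩ := exists_dec T
  have hex : ∀ k, ∃ x : Kˣ, mp F x = p k := by
    intro k
    by_contra hcon
    push Not at hcon
    have h1 := hT (p k) (hd.monic k) (hd.irr k) hcon
    have h2 := size_col_of_dec hd (hd.monic k) (hd.irr k)
    rw [h1, Col.size_zero] at h2
    have h3 := (Finset.sum_eq_zero_iff.1 h2.symm) k (Finset.mem_univ k)
    rw [if_pos rfl] at h3
    exact (hd.pos k).ne' h3
  choose r hr using hex
  let S : Finset Kˣ := Finset.univ.filter fun y => ∃ k, mp F y = p k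
  have hS : ∀ y, y ∈ S ↔ ∃ k, mp F y = p k := fun y => by simp [S]
  have hsize : ∀ y : Kˣ, (tyG K T (omk F y)).size = ∑ k, if p k = mp F y then e k else 0 := by
    intro y
    rw [tyG_mk, size_col_of_dec hd (mp_monic y) (mp_irr y)]
  have hne : ∀ y : Kˣ, tyG K T (omk F y) ≠ 0 → y ∈ S := by
    intro y hy
    rw [hS]
    by_contra hcon
    push Not at hcon
    apply hy
    rw [tyG_mk]
    ext j
    rw [col_apply T (mp_monic y) (mp_irr y), cf_of_dec hd (mp_monic y) (mp_irr y), Col.zero_apply,
      Finset.card_eq_zero, Finset.filter_false_of_mem]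
    rintro k - ⟨hk, -⟩
    exact hcon k hk.symm
  have hne' : ∀ y ∈ S, tyG K T (omk F y) ≠ 0 := by
    intro y hy h0
    obtain ⟨k, hk⟩ := (hS y).1 hy
    have h1 := hsize y
    rw [h0, Col.size_zero] at h1
    have h2 := (Finset.sum_eq_zero_iff.1 h1.symm) k (Finset.mem_univ k)
    rw [if_pos hk.symm] at h2
    exact (hd.pos k).ne' h2
  -- first count
  have hA : ∑ y ∈ S, (tyG K T (omk F y)).size = finrank F V := by
    simp_rw [hsize]
    rw [Finset.sum_comm, hd.cyc.finrank_eq (fun i => pow_ne_zero _ (hd.irr i).ne_zero)]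
    refine Finset.sum_congr rfl fun k _ => ?_
    rw [← Finset.sum_filter, Finset.sum_const, smul_eq_mul, (hd.monic k).natDegree_pow, mul_comm]
    congr 1
    have h1 := ncard_mp (F := F) (r k)
    rw [hr] at h1
    rw [← h1, ← Set.ncard_coe_finset]
    congr 1
    ext y
    rw [Finset.coe_filter]
    exact ⟨fun h => h.2.symm, fun h => ⟨(hS y).2 ⟨k, h⟩, Eq.symm h⟩⟩
  -- second count
  rw [← hA, tdeg, Finsupp.sum, ← Finset.sum_fiberwise_of_maps_to (s := S) (t := (tyG K T).support)
    (g := fun y => omk F y) (fun y hy => Finsupp.mem_support_iff.2 (hne' y hy))]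
  refine Finset.sum_congr rfl fun i hi => ?_
  rw [Finset.sum_congr rfl (fun y hy => by rw [(Finset.mem_filter.1 hy).2]), Finset.sum_const, smul_eq_mul]
  congr 1
  rw [dOrb, Nat.card_eq_fintype_card, Fintype.card_subtype]
  congr 1
  ext y
  rw [Finset.mem_filter, Finset.mem_filter]
  refine ⟨fun h => ⟨hne y ?_, h.2⟩, fun h => ⟨Finset.mem_univ _, h.2⟩⟩
  have h2 : omk F y = i := h.2
  rw [h2]
  exact Finsupp.mem_support_iff.1 hi

end types

/-! ### the number of automorphisms -/

section aut

variable {F : Type u} [Field F] {V : Type v} [AddCommGroup V] [Module F V]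

/-- the number of automorphisms commuting with `T` -/
noncomputable def cU (T : End F V) : ℕ := Nat.card {b : End F V // IsUnit b ∧ b * T = T * b}

theorem cU_congr {V' : Type x} [AddCommGroup V'] [Module F V'] {T : End F V} {T' : End F V'} (φ : V ≃ₗ[F] V')
    (hφ : ∀ x, φ (T x) = T' (φ x)) : cU T = cU T' := by
  let Ψ : End F V ≃ₐ[F] End F V' := φ.conjAlgEquiv F
  have hΨT : Ψ T = T' := by
    refine LinearMap.ext fun y => ?_
    change φ (T (φ.symm y)) = T' y
    rw [hφ, φ.apply_symm_apply]
  refine Nat.card_congr (Ψ.toEquiv.subtypeEquiv fun b => ?_)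
  change _ ↔ IsUnit (Ψ b) ∧ Ψ b * T' = T' * Ψ b
  rw [← hΨT, ← map_mul, ← map_mul, Ψ.injective.eq_iff]
  exact and_congr_left fun _ => ⟨fun h => h.map Ψ, fun h => by
    have := h.map Ψ.symm
    rwa [Ψ.symm_apply_apply] at this⟩

theorem isUnit_prodMap {V' : Type x} [AddCommGroup V'] [Module F V'] {b : End F V} {b' : End F V'} :
    IsUnit (b.prodMap b' : End F (V × V')) ↔ IsUnit b ∧ IsUnit b' := by
  rw [Module.End.isUnit_iff, Module.End.isUnit_iff, Module.End.isUnit_iff]
  exact Prod.map_bijective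

/-- coprime operators -/
theorem cU_prod {V' : Type x} [AddCommGroup V'] [Module F V'] {T : End F V} {T' : End F V'}
    {P P' : F[X]} (hP : aeval T P = 0) (hP' : aeval T' P' = 0) (hc : IsCoprime P P') :
    cU (T.prodMap T' : End F (V × V')) = cU T * cU T' := by
  rw [cU, cU, cU, ← Nat.card_prod]
  have hcomm : ∀ b : {b : End F (V × V') // IsUnit b ∧ b * T.prodMap T' = T.prodMap T' * b}, ∀ x,
      b.1 (T x.1, T' x.2) = (T (b.1 x).1, T' (b.1 x).2) := fun b x => LinearMap.congr_fun b.2.2 x
  have h12 : ∀ (b : {b : End F (V × V') // IsUnit b ∧ b * T.prodMap T' = T.prodMap T' * b}) (x : V),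
      (b.1 (x, 0)).2 = 0 := by
    intro b x
    have h0 := intertwine_eq_zero hP hP' hc (LinearMap.snd F V V' ∘ₗ b.1 ∘ₗ LinearMap.inl F V V') (fun x => by
      have := congrArg Prod.snd (hcomm b (x, 0))
      simpa using this)
    exact LinearMap.congr_fun h0 x
  have h21 : ∀ (b : {b : End F (V × V') // IsUnit b ∧ b * T.prodMap T' = T.prodMap T' * b}) (x : V'),
      (b.1 (0, x)).1 = 0 := by
    intro b x
    have h0 := intertwine_eq_zero hP' hP hc.symm (LinearMap.fst F V V' ∘ₗ b.1 ∘ₗ LinearMap.inr F V V') (fun x => by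
      have := congrArg Prod.fst (hcomm b (0, x))
      simpa using this)
    exact LinearMap.congr_fun h0 x
  have hdec : ∀ b : {b : End F (V × V') // IsUnit b ∧ b * T.prodMap T' = T.prodMap T' * b},
      (LinearMap.fst F V V' ∘ₗ b.1 ∘ₗ LinearMap.inl F V V').prodMap (LinearMap.snd F V V' ∘ₗ b.1 ∘ₗ LinearMap.inr F V V') =
        b.1 := by
    intro b
    refine LinearMap.ext fun x => ?_
    have hx : x = (x.1, 0) + (0, x.2) := by simp
    have e1 : b.1 x = b.1 (x.1, 0) + b.1 (0, x.2) := by rw [← map_add, ← hx]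
    refine Prod.ext ?_ ?_
    · have := congrArg Prod.fst e1
      rw [Prod.fst_add, h21, add_zero] at this
      exact this.symm
    · have := congrArg Prod.snd e1
      rw [Prod.snd_add, h12, zero_add] at this
      exact this.symm
  have hu : ∀ b : {b : End F (V × V') // IsUnit b ∧ b * T.prodMap T' = T.prodMap T' * b},
      IsUnit (LinearMap.fst F V V' ∘ₗ b.1 ∘ₗ LinearMap.inl F V V' : End F V) ∧
        IsUnit (LinearMap.snd F V V' ∘ₗ b.1 ∘ₗ LinearMap.inr F V V' : End F V') := by
    intro b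
    rw [← isUnit_prodMap, hdec]
    exact b.2.1
  refine Nat.card_congr
    { toFun := fun b => (⟨LinearMap.fst F V V' ∘ₗ b.1 ∘ₗ LinearMap.inl F V V', (hu b).1, ?_⟩,
        ⟨LinearMap.snd F V V' ∘ₗ b.1 ∘ₗ LinearMap.inr F V V', (hu b).2, ?_⟩)
      invFun := fun c => ⟨c.1.1.prodMap c.2.1, isUnit_prodMap.2 ⟨c.1.2.1, c.2.2.1⟩, ?_⟩
      left_inv := fun b => Subtype.ext (hdec b)
      right_inv := fun c => ?_ }
  · ext x
    have := congrArg Prod.fst (hcomm b (x, 0))
    simpa using this
  · ext x
    have := congrArg Prod.snd (hcomm b (0, x))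
    simpa using this
  · have e1 := c.1.2.2
    have e2 := c.2.2.2
    refine LinearMap.ext fun x => Prod.ext ?_ ?_
    · exact LinearMap.congr_fun e1 x.1
    · exact LinearMap.congr_fun e2 x.2
  · refine Prod.ext (Subtype.ext (LinearMap.ext fun x => ?_)) (Subtype.ext (LinearMap.ext fun x => ?_))
    · rfl
    · rfl

end aut

/-! ### realisation of all types -/

section real

variable {F : Type u} [Field F] [Fintype F] {K : Type w} [Field K] [Finite K] [Algebra F K]

/-- a type is realised by a matrix with centraliser of the right order -/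
def RealG (lam : Ty (Orb K (Fintype.card F : ℤ))) : Prop :=
  ∃ (n : ℕ) (A : Matrix (Fin n) (Fin n) F), KSp K (Matrix.toLin' A) ∧ tyG K (Matrix.toLin' A) = lam ∧
    (cU (Matrix.toLin' A) : ℂ) = Ag (dOrb K (Fintype.card F : ℤ)) (Fintype.card F : ℤ) lam

theorem realG_of {V : Type v} [AddCommGroup V] [Module F V] [FiniteDimensional F V] {T : End F V} (hT : KSp K T)
    {lam : Ty (Orb K (Fintype.card F : ℤ))} (hlam : tyG K T = lam)
    (hcard : (cU T : ℂ) = Ag (dOrb K (Fintype.card F : ℤ)) (Fintype.card F : ℤ) lam) : RealG lam := by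
  let φ : V ≃ₗ[F] (Fin (finrank F V) → F) := LinearEquiv.ofFinrankEq _ _ (by rw [finrank_fin_fun])
  have hφ : ∀ x, φ (T x) = Matrix.toLin' (LinearMap.toMatrix' (φ.toLinearMap ∘ₗ T ∘ₗ φ.symm.toLinearMap)) (φ x) := by
    intro x
    rw [Matrix.toLin'_toMatrix']
    change φ (T x) = φ (T (φ.symm (φ x)))
    rw [φ.symm_apply_apply]
  exact ⟨_, _, hT.congr φ hφ, by rw [← tyG_congr φ hφ, hlam], by rw [← cU_congr φ hφ, hcard]⟩

/-- realisation of the types with one orbit -/
theorem existsG_single (o : Orb K (Fintype.card F : ℤ)) {l : Col} (hl : l ≠ 0) :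
    RealG (F := F) (Finsupp.single o l) := by
  classical
  obtain ⟨x, hx⟩ : ∃ x : Kˣ, omk F x = o := ⟨_, omk_out o⟩
  have hint := mp_int (F := F) x
  have hfd : FiniteDimensional F (IntermediateField.adjoin F {(x : K)}) := IntermediateField.adjoin.finiteDimensional hint
  have hKft : Fintype (IntermediateField.adjoin F {(x : K)}) := Fintype.ofFinite _
  have hcardK : Fintype.card (IntermediateField.adjoin F {(x : K)}) = Fintype.card F ^ (mp F x).natDegree := by
    rw [Module.card_eq_pow_finrank (K := F), IntermediateField.adjoin.finrank hint]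
    rfl
  have hfinK : finrank F (IntermediateField.adjoin F {(x : K)}) = (mp F x).natDegree :=
    IntermediateField.adjoin.finrank hint
  have hmin : minpoly F (IntermediateField.AdjoinSimple.gen F (x : K)) = mp F x := IntermediateField.minpoly_gen F (x : K)
  have hgen : Algebra.adjoin F {IntermediateField.AdjoinSimple.gen F (x : K)} = ⊤ := by
    have h1 := (IntermediateField.adjoin.powerBasis hint).adjoin_gen_eq_top
    rwa [IntermediateField.adjoin.powerBasis_gen] at h1
  have hθ0 : IntermediateField.AdjoinSimple.gen F (x : K) ≠ 0 := by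
    intro h0
    have h1 := congrArg (algebraMap (IntermediateField.adjoin F {(x : K)}) K) h0
    rw [IntermediateField.AdjoinSimple.algebraMap_gen, map_zero] at h1
    exact x.ne_zero h1
  have hod : dOrb K (Fintype.card F : ℤ) o = (mp F x).natDegree := by rw [← hx, dOrb_mk]
  obtain ⟨t, b, hb, hl'⟩ := exists_blocks l
  obtain ⟨m, hm, e, bas, hbas⟩ := exists_jordan (IntermediateField.adjoin F {(x : K)}) b
  set J := Matrix.reindex e e (Cfsg.jordanTypeMatrix b (IntermediateField.adjoin F {(x : K)})) with hJ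
  have hnil : (Matrix.toLin' J - 1) ^ (Finset.univ.sup b) = 0 :=
    nilp_jb hbas (fun k => Finset.le_sup (Finset.mem_univ k))
  obtain ⟨N, hN⟩ := exists_pow_theta hnil (IntermediateField.AdjoinSimple.gen F (x : K))
  have hcol := fun φ hφ hirr => col_theta hl' hθ0 (by rw [hfinK, hmin]) hbas (φ := φ) hφ hirr
  refine realG_of (T := ((IntermediateField.AdjoinSimple.gen F (x : K) • Matrix.toLin' J :
    End (IntermediateField.adjoin F {(x : K)}) (Fin m → IntermediateField.adjoin F {(x : K)})).restrictScalars F)) ?_ ?_ ?_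
  · intro φ hφ hirr h
    rw [hcol φ hφ hirr, if_neg]
    rw [hmin]
    exact fun h1 => h x h1.symm
  · ext1 o'
    rw [tyG_apply, hcol _ (mp_monic _) (mp_irr _), hmin]
    by_cases ho : o' = o
    · subst ho
      rw [Finsupp.single_eq_same, if_pos]
      rw [← omk_eq_iff, omk_out, hx]
    · rw [Finsupp.single_eq_of_ne ho, if_neg]
      rw [← omk_eq_iff, omk_out, hx]
      exact ho
  · rw [cU, card_units_restrict hgen hN, Ag_single _ _ _ hl, hod]
    have h1 : Nat.card {B : End (IntermediateField.adjoin F {(x : K)}) (Fin m → IntermediateField.adjoin F {(x : K)}) //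
        IsUnit B ∧ B * (IntermediateField.AdjoinSimple.gen F (x : K) • Matrix.toLin' J) =
          (IntermediateField.AdjoinSimple.gen F (x : K) • Matrix.toLin' J) * B} =
        Nat.card {B : End (IntermediateField.adjoin F {(x : K)}) (Fin m → IntermediateField.adjoin F {(x : K)}) //
        IsUnit B ∧ B * Matrix.toLin' J = Matrix.toLin' J * B} := by
      refine Nat.card_congr (Equiv.subtypeEquivRight fun B => ?_)
      rw [mul_smul_comm, smul_mul_assoc]
      exact and_congr_right fun _ => ⟨fun h => smul_right_injective _ hθ0 h, fun h => by rw [h]⟩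
    rw [h1, hJ, card_gl hb hl' e, hcardK]
    push_cast
    rfl

theorem realG_zero : RealG (F := F) (0 : Ty (Orb K (Fintype.card F : ℤ))) := by
  refine realG_of (V := Fin 0 → F) (T := 0) ?_ ?_ ?_
  · intro φ hφ hirr _
    rw [kd_zero_iff _ hφ hirr, kd]
    exact finrank_zero_of_subsingleton
  · ext1 i
    rw [tyG_apply, Finsupp.coe_zero, Pi.zero_apply, kd_zero_iff _ (mp_monic _) (mp_irr _), kd]
    exact finrank_zero_of_subsingleton
  · rw [Ag, Finsupp.support_zero, Finset.prod_empty, cU]
    have : Unique {b : End F (Fin 0 → F) // IsUnit b ∧ b * 0 = 0 * b} :=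
      { default := ⟨1, isUnit_one, by simp⟩
        uniq := fun a => Subtype.ext (Subsingleton.elim _ _) }
    rw [Nat.card_unique]
    norm_num

theorem realG_add {i : Orb K (Fintype.card F : ℤ)} {lam : Ty (Orb K (Fintype.card F : ℤ))} (hi : lam i ≠ 0)
    (h2 : RealG (F := F) (lam.erase i)) : RealG (F := F) lam := by
  classical
  obtain ⟨n, A, hA, hAt, hAc⟩ := existsG_single (F := F) i hi
  obtain ⟨m, B, hB, hBt, hBc⟩ := h2
  have hcop := exists_coprime (Matrix.toLin' A) (Matrix.toLin' B) (fun φ hφ hirr => by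
    by_cases h : ∀ x : Kˣ, mp F x ≠ φ
    · left
      exact hA φ hφ hirr h
    · push Not at h
      obtain ⟨x, rfl⟩ := h
      rw [← tyG_mk, ← tyG_mk, hAt, hBt]
      by_cases hx : omk F x = i
      · right
        rw [hx, Finsupp.erase_same]
      · left
        rw [Finsupp.single_eq_of_ne hx])
  have hprod : ∀ φ : F[X], φ.Monic → Irreducible φ → ∀ k,
      col ((Matrix.toLin' A).prodMap (Matrix.toLin' B) : End F ((Fin n → F) × (Fin m → F))) φ k =
        col (Matrix.toLin' A) φ k + col (Matrix.toLin' B) φ k := by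
    intro φ hφ hirr k
    rw [col_apply _ hφ hirr, cf_prod _ _ hφ hirr, ← col_apply _ hφ hirr, ← col_apply _ hφ hirr]
  refine realG_of (T := (Matrix.toLin' A).prodMap (Matrix.toLin' B)) ?_ ?_ ?_
  · intro φ hφ hirr h
    ext k
    rw [hprod φ hφ hirr, hA φ hφ hirr h, hB φ hφ hirr h]
    rfl
  · ext1 j
    ext k
    rw [tyG_apply, hprod _ (mp_monic _) (mp_irr _), ← tyG_apply, ← tyG_apply, hAt, hBt]
    by_cases hj : j = i
    · subst hj
      rw [Finsupp.single_eq_same, Finsupp.erase_same, Col.zero_apply, add_zero]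
    · rw [Finsupp.single_eq_of_ne hj, Finsupp.erase_ne hj, Col.zero_apply, zero_add]
  · rw [cU_prod (minpoly.aeval _ _) (minpoly.aeval _ _) hcop, Nat.cast_mul, hAc, hBc, Ag_single _ _ _ hi]
    rw [Ag, Ag, ← Finset.mul_prod_erase lam.support _ (Finsupp.mem_support_iff.2 hi), Finsupp.support_erase]
    congr 1
    refine Finset.prod_congr rfl fun j hj => ?_
    rw [Finsupp.erase_ne (Finset.ne_of_mem_erase hj)]

theorem realG_all (lam : Ty (Orb K (Fintype.card F : ℤ))) : RealG (F := F) lam := by
  classical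
  obtain ⟨N, hN⟩ : ∃ N, lam.support.card = N := ⟨_, rfl⟩
  induction N generalizing lam with
  | zero =>
    rw [Finset.card_eq_zero, Finsupp.support_eq_empty] at hN
    rw [hN]
    exact realG_zero
  | succ N ih =>
    obtain ⟨i, hi⟩ := Finset.card_pos.1 (by omega : 0 < lam.support.card)
    refine realG_add (Finsupp.mem_support_iff.1 hi) (ih _ ?_)
    rw [Finsupp.support_erase, Finset.card_erase_of_mem hi, hN, Nat.add_sub_cancel]

end real

/-! ### the class data -/

section data

variable {F : Type u} [Field F] [Fintype F] {K : Type w} [Field K] [Finite K] [Algebra F K] {n : ℕ}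

theorem glG_injective (g : GL (Fin n) F) : Function.Injective (Matrix.toLin' g.1) := by
  intro x y h
  have h1 := congrArg (Matrix.toLin' (g⁻¹).1) h
  rw [← Matrix.toLin'_mul_apply, ← Matrix.toLin'_mul_apply] at h1
  have h2 : (g⁻¹).1 * g.1 = 1 := by rw [← Units.val_mul, inv_mul_cancel, Units.val_one]
  rw [h2, Matrix.toLin'_one] at h1
  exact h1

theorem kd_nonsplit {n : ℕ} {g g' : GL (Fin n) F} (hg : KSp K (Matrix.toLin' g.1)) (hg' : KSp K (Matrix.toLin' g'.1))
    (h : (tyG K (Matrix.toLin' g.1) : Ty (Orb K (Fintype.card F : ℤ))) = tyG K (Matrix.toLin' g'.1)) : IsConj g g' := by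
  refine Cfsg.Agent.H987.Sl.isConj_of_kd' g g' fun φ hφ hirr j => ?_
  have h1 : col (Matrix.toLin' g.1) φ = col (Matrix.toLin' g'.1) φ := by
    by_cases hx : ∀ x : Kˣ, mp F x ≠ φ
    · rw [hg φ hφ hirr hx, hg' φ hφ hirr hx]
    · push Not at hx
      obtain ⟨x, rfl⟩ := hx
      rw [← tyG_mk, ← tyG_mk, h]
  exact kd_eq_of_col hφ hirr h1 j

theorem tyG_conj (g h : GL (Fin n) F) :
    (tyG K (Matrix.toLin' (h * g * h⁻¹).1) : Ty (Orb K (Fintype.card F : ℤ))) = tyG K (Matrix.toLin' g.1) := by
  have h1 : h.1 * (h⁻¹).1 = 1 := by rw [← Units.val_mul, mul_inv_cancel, Units.val_one]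
  have h2 : (h⁻¹).1 * h.1 = 1 := by rw [← Units.val_mul, inv_mul_cancel, Units.val_one]
  let φ : (Fin n → F) ≃ₗ[F] (Fin n → F) := Matrix.toLin'OfInv h2 h1
  refine (tyG_congr φ fun x => ?_).symm
  change Matrix.toLin' h.1 (Matrix.toLin' g.1 x) =
    Matrix.toLin' (h.1 * g.1 * (h⁻¹).1) (Matrix.toLin' h.1 x)
  rw [← Matrix.toLin'_mul_apply, ← Matrix.toLin'_mul_apply, mul_assoc, h2, mul_one]

theorem card_cent (g : GL (Fin n) F) :
    Nat.card (Subgroup.centralizer ({g} : Set (GL (Fin n) F))) = cU (Matrix.toLin' g.1) := by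
  classical
  let Ψ : Matrix (Fin n) (Fin n) F ≃ₐ[F] End F (Fin n → F) := Matrix.toLinAlgEquiv'
  have hΨ : ∀ A, Ψ A = Matrix.toLin' A := fun A => rfl
  rw [cU]
  refine Nat.card_congr
    { toFun := fun c => ⟨Ψ c.1.1, c.1.isUnit.map Ψ, by
        rw [← hΨ, ← map_mul, ← map_mul]
        have h := Subgroup.mem_centralizer_singleton_iff.1 c.2
        exact congrArg Ψ (congrArg Units.val h)⟩
      invFun := fun B => ⟨(B.2.1.map Ψ.symm).unit, Subgroup.mem_centralizer_singleton_iff.2 (by
        apply Units.ext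
        apply Ψ.injective
        change Ψ (Ψ.symm B.1 * g.1) = Ψ (g.1 * Ψ.symm B.1)
        rw [map_mul, map_mul, Ψ.apply_symm_apply]
        exact B.2.2)⟩
      left_inv := fun c => Subtype.ext (Units.ext (Ψ.symm_apply_apply _))
      right_inv := fun B => Subtype.ext (Ψ.apply_symm_apply _) }

/-- the class data of `GL_n(F)` -/
noncomputable def typeGL (K : Type w) [Field K] [Finite K] [Algebra F K] {n : ℕ}
    (hs : ∀ h : F[X], h.Monic → h.natDegree ≤ n → (h.map (algebraMap F K)).Splits) :
    TypeData (dOrb K (Fintype.card F : ℤ)) (Fintype.card F : ℤ) (GL (Fin n) F) n where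
  typ g := tyG K (Matrix.toLin' g.1)
  conj g h := tyG_conj g h
  deg g := by
    rw [tdeg_tyG (kSp_of_splits hs (by rw [finrank_fin_fun]) (glG_injective g)), finrank_fin_fun]
  sep g g' h := kd_nonsplit (kSp_of_splits hs (by rw [finrank_fin_fun]) (glG_injective g))
    (kSp_of_splits hs (by rw [finrank_fin_fun]) (glG_injective g')) h
  card lam hlam := by
    classical
    obtain ⟨m, A, hA, hAt, hAc⟩ := realG_all (F := F) lam
    have hm : m = n := by
      rw [← hlam, ← hAt, tdeg_tyG hA, finrank_fin_fun]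
    subst hm
    have hunit : IsUnit A := by
      have h1 : LinearMap.ker (Matrix.toLin' A) = ⊥ := by
        have h2 := hA X monic_X irreducible_X (fun x hx => mp_coeff_zero (F := F) x (by rw [hx, coeff_X_zero]))
        rw [kd_zero_iff _ monic_X irreducible_X, kd, pow_one, aeval_X] at h2
        exact Submodule.finrank_eq_zero.1 h2
      have h3 : IsUnit (Matrix.toLin' A) := by
        rw [Module.End.isUnit_iff]
        have h4 := LinearMap.ker_eq_bot.1 h1
        exact ⟨h4, LinearMap.surjective_of_injective h4⟩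
      have h5 := h3.map (Matrix.toLinAlgEquiv' : Matrix (Fin m) (Fin m) F ≃ₐ[F] _).symm
      exact (Matrix.toLinAlgEquiv' : Matrix (Fin m) (Fin m) F ≃ₐ[F] _).symm_apply_apply A ▸ h5
    obtain ⟨g0, hg0⟩ := hunit
    have h1 : Nat.card {g : GL (Fin m) F // tyG K (Matrix.toLin' g.1) = lam} =
        Nat.card {x : GL (Fin m) F // IsConj g0 x} := by
      refine Nat.card_congr (Equiv.subtypeEquivRight fun g => ⟨fun h => ?_, fun h => ?_⟩)
      · exact kd_nonsplit (hg0.symm ▸ hA) (kSp_of_splits hs (by rw [finrank_fin_fun]) (glG_injective g)) (by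
          rw [h]
          exact hg0.symm ▸ hAt)
      · obtain ⟨c, rfl⟩ := isConj_iff.1 h
        rw [tyG_conj]
        exact hg0.symm ▸ hAt
    have h2 := card_class g0
    rw [card_cent] at h2
    have h3 : (cU (Matrix.toLin' g0.1) : ℂ) = Ag (dOrb K (Fintype.card F : ℤ)) (Fintype.card F : ℤ) lam := hg0.symm ▸ hAc
    have hsign : (((Fintype.card F : ℕ) : ℤ)).sign = 1 := Int.sign_natCast_of_ne_zero Fintype.card_ne_zero
    rw [h1, hsign, ← h2]
    push_cast
    rw [h3, one_pow, one_mul]

theorem typeGL_mk {n : ℕ} (hs : ∀ h : F[X], h.Monic → h.natDegree ≤ n → (h.map (algebraMap F K)).Splits)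
    (g : GL (Fin n) F) (x : Kˣ) : (typeGL K hs).typ g (omk F x) = mcol g.1 (x : K) := by
  rw [mcol_eq_col]
  exact tyG_mk _ x

end data

end Cfsg.Agent.H623.GU
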