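import Cfsg.Agent.H623.GU.Tower
import Cfsg.Agent.H623.GU.Split
import Cfsg.Agent.H417.GU.Shift
import Cfsg.Agent.H521.GU.Compl

/-!
# S4537: the values at `u (A, B)`

* `R67 θ Q M p f` : the coproduct formula for the evaluation at types; `r67` : its proof (from helper417's `evR_sec`);
* `val_of` : `Val` for the realizations given by types, from `R67` and the formula for the types of `j (A, B)`.
-/

set_option autoImplicit false

open Cfsg
open scoped ComplexConjugate TensorProduct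

namespace Cfsg.Agent.H623.GU

open Cfsg.Agent.H577.GLB.Std Cfsg.Agent.H614 Cfsg.Agent.H614.GLn Cfsg.Agent.H615.GU
open Cfsg.Agent.H577.GLB.Real (coP PhiF PGen frm)
open Cfsg.Agent.H112.GLB Cfsg.Agent.H608.BlockRank

universe u v

variable {K : Type v} [Field K] {θ : K →*₀ ℂ} {Q : ℤ} {M : ℕ} [NeZero M] {p n k l f : ℕ}

/-- the value of the realization at a type, as a functional -/
noncomputable def evT (θ : K →*₀ ℂ) (Q : ℤ) (M : ℕ) (lam : Ty (Orb K Q)) : RS M →ₗ[ℂ] ℂ :=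
  LinearMap.proj lam ∘ₗ H615.GU.evR θ Q M

theorem evT_apply (lam : Ty (Orb K Q)) (x : RS M) : evT θ Q M lam x = H615.GU.evR θ Q M x lam := rfl

open Classical in
/-- the coproduct formula for the evaluation at types (R6, R7) -/
def R67 (θ : K →*₀ ℂ) (Q : ℤ) (M p f : ℕ) : Prop :=
  ∀ z : Kˣ, (∃ a : ℕ, z ^ p ^ a = 1) → z ≠ 1 → (∀ j : ℕ, z ^ (Q ^ j) = z ↔ f ∣ j) → ∀ x ∈ PGen Q M p,
    ∀ (lam mu₂ : Ty (Orb K Q)) (mu₁ : Ty (Orb K (Q ^ f))), lam.filter (fun o => ¬ ZOrb K Q p z o) = mu₂ →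
      (∀ y : Kˣ, (orderOf y).Coprime p → lam.filter (ZOrb K Q p z) (Quotient.mk (orbSetoid K Q) (z * y)) =
        mu₁ (Quotient.mk (orbSetoid K (Q ^ f)) y)) → PregT (Q ^ f) p mu₁ → PregT Q p mu₂ →
      H615.GU.evR θ Q M x lam = LinearMap.mul' ℂ ℂ (TensorProduct.map (evT θ (Q ^ f) M mu₁ ∘ₗ (PhiF Q M f).toLinearMap)
        (evT θ Q M mu₂) (coP M x))

open Classical in
/-- **(R6), (R7).** -/
theorem r67 {N : ℕ} (ctx : CtxQ θ Q M N) (hp : p.Prime) (hf : 0 < f) : R67 θ Q M p f := by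
  have := ctx.finK
  intro z hz hz1 hmin x hx lam mu₂ mu₁ hs1 hs2 hpr₁ hpr₂
  obtain ⟨a, ha⟩ := hz
  have hzf : z ^ (Q ^ f) = z := (hmin f).2 dvd_rfl
  refine H417.GU.evR_sec θ H521.GU.i2s ctx.card ctx.unit ha hz1 hmin hf hx ⟨hpr₁, hpr₂, ?_, ?_, ?_⟩
  · intro y hy
    rw [← hs2 y hy, Finsupp.filter_apply_pos (ZOrb K Q p z) lam ⟨y, hy, rfl⟩]
  · intro y hy
    by_cases hyz : ZOrb K Q p z (Quotient.mk (orbSetoid K Q) y)
    · exfalso
      have h1 := b_eq_zero (f := f) hp ha hz1 hf hzf (b := fun x : Kˣ =>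
        if (orderOf x).Coprime p then (⟨Finsupp.single 0 1, fun i j hij => by
          rcases Nat.eq_zero_or_pos j with rfl | hj
          · rw [Nat.le_zero.1 hij]
          · rw [Finsupp.single_eq_of_ne hj.ne']
            exact Nat.zero_le _⟩ : Col) else 0) (fun x h => by
          by_contra hc
          exact h (if_neg hc)) hyz
      have h1' := h1.symm.trans (if_pos hy)
      have h2 := congrArg (fun c : Col => c 0) h1'
      have h3 : (0 : ℕ) = (Finsupp.single 0 1 : ℕ →₀ ℕ) 0 := h2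
      rw [Finsupp.single_eq_same] at h3
      exact absurd h3 (by norm_num)
    · rw [← hs1, Finsupp.filter_apply_pos (fun o => ¬ ZOrb K Q p z o) lam hyz]
  · intro x hx
    by_cases hxz : ZOrb K Q p z (Quotient.mk (orbSetoid K Q) x)
    · obtain ⟨y, hy, hxy⟩ := hxz
      exact ⟨y, hy, Or.inl hxy⟩
    · refine ⟨x, hpr₂ x ?_, Or.inr rfl⟩
      rw [← hs1, Finsupp.filter_apply_pos (fun o => ¬ ZOrb K Q p z o) lam hxz]
      exact hx

section

variable {G : Type u} [Group G] {X₁ : Type u} [Group X₁] {X₂ : Type u} [Group X₂]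
  {T : TypeData (dOrb K Q) Q G n} {T₁ : TypeData (dOrb K (Q ^ f)) (Q ^ f) X₁ k} {T₂ : TypeData (dOrb K Q) Q X₂ l}

/-- **The values at `u (A, B)`.** -/
theorem val_of (hp : p.Prime) (hf : 0 < f) (h67 : R67 θ Q M p f) (h : RzHyp θ M p T) (h₁ : RzHyp θ M p T₁)
    (h₂ : RzHyp θ M p T₂) (j : X₁ × X₂ →* G) (c : X₁) {z : Kˣ} {a₀ : ℕ} (hz : z ^ p ^ a₀ = 1) (hz1 : z ≠ 1)
    (hmin : ∀ j : ℕ, z ^ (Q ^ j) = z ↔ f ∣ j)
    (htyp : ∀ (A : X₁) (B : X₂) (x : Kˣ) (i : ℕ), T.typ (j (A, B)) (Quotient.mk (orbSetoid K Q) x) i =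
      ∑ i' ∈ Finset.range f, T₁.typ A (Quotient.mk (orbSetoid K (Q ^ f)) (x ^ (Q ^ i'))) i +
        T₂.typ B (Quotient.mk (orbSetoid K Q) x) i)
    (hsh : ∀ (A : X₁) (y : Kˣ), T₁.typ (c * A) (Quotient.mk (orbSetoid K (Q ^ f)) y) =
      T₁.typ A (Quotient.mk (orbSetoid K (Q ^ f)) (z⁻¹ * y)))
    (hpr₁ : ∀ A : X₁, ¬ p ∣ orderOf A → PregT (Q ^ f) p (T₁.typ A))
    (hpr₂ : ∀ B : X₂, ¬ p ∣ orderOf B → PregT Q p (T₂.typ B)) :
    Val h.rz h₁.rz h₂.rz j (j (c, 1)) := by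
  classical
  intro x hx A B hA hB
  rw [← map_mul, Prod.mk_mul_mk, one_mul, h.rz_om_apply]
  obtain ⟨hs1, hs2⟩ := types_split (f := f) (lam := T.typ (j (c * A, B))) (mu := T₂.typ B) (nu := T₁.typ A)
    (a := fun y => T₁.typ A (Quotient.mk (orbSetoid K (Q ^ f)) y))
    (b := fun y => T₂.typ B (Quotient.mk (orbSetoid K Q) y))
    (c := fun x => T.typ (j (c * A, B)) (Quotient.mk (orbSetoid K Q) x)) hp hz hz1 hf ((hmin f).2 dvd_rfl)
    (fun i h0 hi h1 => absurd (Nat.le_of_dvd h0 ((hmin i).1 h1)) (not_le.2 hi))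
    (hpr₁ A hA) (hpr₂ B hB) (fun x i => by
      simp only [htyp, hsh]) (fun x => rfl) (fun x => rfl) (fun x => rfl)
  exact h67 z ⟨a₀, hz⟩ hz1 hmin x hx _ _ _ hs1 hs2 (hpr₁ A hA) (hpr₂ B hB)

end

end Cfsg.Agent.H623.GU
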